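import Cfsg.Agent.S0345
import Cfsg.Agent.Lib.PermGp.ZassenhausEven.Kernel
import Cfsg.Agent.Lib.ZassNormal.Basic
import Cfsg.Agent.Lib.Basics.ThompsonFpf

/-!
# Simple Zassenhaus groups with two-point stabilisers of odd order
-/

set_option autoImplicit false
set_option linter.unusedSectionVars false

namespace Cfsg.Agent.ZassOdd

open MulAction
open Cfsg.Agent.PermGp.ZEven

variable {G Ω : Type*} [Group G] [MulAction G Ω]

/-- The consequences of simplicity used in the counting. -/
structure OddSetup (G Ω : Type*) [Group G] [MulAction G Ω] (e : ℕ) : Prop where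
  grp : ZGrp G Ω
  stab_card : ∀ c d : Ω, c ≠ d → Nat.card ↥(stabilizer G c ⊓ stabilizer G d : Subgroup G) = e
  odd : Odd e
  inverting : ∀ c d : Ω, c ≠ d → ∃ v : G, orderOf v = 2 ∧ v • c = d ∧ v • d = c ∧
    ∀ x ∈ stabilizer G c ⊓ stabilizer G d, v * x * v⁻¹ = x⁻¹

theorem stab_card_eq (Z : ZGrp G Ω) {a b c d : Ω} (hab : a ≠ b) (hcd : c ≠ d) :
    Nat.card ↥(stabilizer G c ⊓ stabilizer G d : Subgroup G) =
      Nat.card ↥(stabilizer G a ⊓ stabilizer G b : Subgroup G) := by
  obtain ⟨g, hga, hgb⟩ := PermGp.two_trans_exists Z.two hab hcd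
  have h : (stabilizer G a ⊓ stabilizer G b).map (MulAut.conj g).toMonoidHom =
      stabilizer G c ⊓ stabilizer G d := by
    rw [Subgroup.map_inf_eq _ _ _ (MulAut.conj g).injective, ← stabilizer_smul_eq_stabilizer_map_conj,
      ← stabilizer_smul_eq_stabilizer_map_conj, hga, hgb]
  rw [← h, Subgroup.card_map_of_injective (MulAut.conj g).injective]

theorem setup [Finite G] [Fintype Ω] (hZ : Cfsg.IsZassenhausGroup G Ω) [IsSimpleGroup G] {a b : Ω}
    (hab : a ≠ b) {e : ℕ}
    (he : Nat.card ↥(stabilizer G a ⊓ stabilizer G b : Subgroup G) = e) (hodd : Odd e) :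
    OddSetup G Ω e where
  grp := zgrp_of_zassenhaus hZ
  stab_card c d hcd := by rw [stab_card_eq (zgrp_of_zassenhaus hZ) hab hcd, he]
  odd := hodd
  inverting c d hcd := (Cfsg.Agent.S0345.result hZ hcd).2

variable [Finite G] [Fintype Ω] {e : ℕ} (S : OddSetup G Ω e)

include S

theorem one_lt {a b : Ω} (hab : a ≠ b) : 1 < e := by
  rw [← S.stab_card a b hab]; exact S.grp.stab_pos hab

theorem ne_one_of_sq_fix {a b : Ω} (hab : a ≠ b) {x : G} (hxa : x • a = a) (hxb : x • b = b)
    (hx : x * x = 1) : x = 1 := by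
  by_contra h1
  have h2 : orderOf x = 2 := orderOf_eq_prime (by rw [pow_two, hx]) h1
  have h3 := Subgroup.orderOf_dvd_natCard (stabilizer G a ⊓ stabilizer G b) (x := x)
    (Subgroup.mem_inf.mpr ⟨hxa, hxb⟩)
  rw [h2, S.stab_card a b hab] at h3
  exact (Nat.not_even_iff_odd.mpr S.odd) (even_iff_two_dvd.mpr h3)

/-- An element exchanging two points inverts their stabiliser. -/
theorem swap_inv {c d : Ω} (hcd : c ≠ d) {x : G} (hxc : x • c = d) (hxd : x • d = c) {k : G}
    (hk : k ∈ stabilizer G c ⊓ stabilizer G d) : x * x = 1 ∧ x ≠ 1 ∧ x * k * x⁻¹ = k⁻¹ := by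
  obtain ⟨v, hv, hvc, hvd, hinv⟩ := S.inverting c d hcd
  have hvv : v * v = 1 := by rw [← pow_two, ← hv, pow_orderOf_eq_one]
  have hvi : v⁻¹ = v := inv_eq_of_mul_eq_one_right hvv
  set y := v * x with hy
  have hy' : y ∈ stabilizer G c ⊓ stabilizer G d :=
    Subgroup.mem_inf.mpr ⟨by rw [mem_stabilizer_iff, hy, mul_smul, hxc, hvd],
      by rw [mem_stabilizer_iff, hy, mul_smul, hxd, hvc]⟩
  have hx : x = v * y := by rw [hy, ← mul_assoc, hvv, one_mul]
  have hcomm : ∀ p ∈ stabilizer G c ⊓ stabilizer G d, ∀ q ∈ stabilizer G c ⊓ stabilizer G d,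
      p * q = q * p := by
    intro p hp q hq
    have h := hinv _ (Subgroup.mul_mem _ hp hq)
    have h' : v * (p * q) * v⁻¹ = (v * p * v⁻¹) * (v * q * v⁻¹) := by group
    rw [h', hinv p hp, hinv q hq, ← mul_inv_rev, inv_inj] at h
    exact h.symm
  refine ⟨?_, fun h1 => hcd (by rw [← hxc, h1, one_smul]), ?_⟩
  · have h1 := hinv y hy'
    rw [hx]
    calc v * y * (v * y) = (v * y * v⁻¹) * y := by rw [hvi]; group
      _ = 1 := by rw [h1, inv_mul_cancel]
  · rw [hx]
    calc v * y * k * (v * y)⁻¹ = v * (y * k * y⁻¹) * v⁻¹ := by group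
      _ = k⁻¹ := by rw [hcomm y hy' k hk, mul_inv_cancel_right, hinv k hk]

theorem card_swap {c d : Ω} (hcd : c ≠ d) : Nat.card {x : G // x • c = d ∧ x • d = c} = e := by
  obtain ⟨v, -, hvc, hvd, -⟩ := S.inverting c d hcd
  rw [← S.stab_card c d hcd]
  refine (Nat.card_congr
    { toFun := fun k => ⟨v * (k : G), by
        obtain ⟨h1, h2⟩ := Subgroup.mem_inf.mp k.2
        exact ⟨by rw [mul_smul, mem_stabilizer_iff.mp h1, hvc], by rw [mul_smul, mem_stabilizer_iff.mp h2, hvd]⟩⟩
      invFun := fun x => ⟨v⁻¹ * x.1, Subgroup.mem_inf.mpr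
        ⟨by rw [mem_stabilizer_iff, mul_smul, x.2.1, ← hvc, inv_smul_smul],
          by rw [mem_stabilizer_iff, mul_smul, x.2.2, ← hvd, inv_smul_smul]⟩⟩
      left_inv := fun k => Subtype.ext (inv_mul_cancel_left _ _)
      right_inv := fun x => Subtype.ext (mul_inv_cancel_left _ _) }).symm

theorem involution_iff_swap {c d : Ω} (hcd : c ≠ d) (x : G) :
    (orderOf x = 2 ∧ x • c = d) ↔ (x • c = d ∧ x • d = c) := by
  constructor
  · rintro ⟨hx, h⟩
    refine ⟨h, ?_⟩
    rw [← h, ← mul_smul, ← pow_two, ← hx, pow_orderOf_eq_one, one_smul]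
  · rintro ⟨h, h'⟩
    obtain ⟨hxx, hx1, -⟩ := swap_inv S hcd h h' (Subgroup.one_mem _)
    exact ⟨orderOf_eq_prime (by rw [pow_two, hxx]) hx1, h⟩

/-- Involutions fix at most one point; which happens exactly for an odd number of points. -/
theorem fixed_involution {x : G} (hx : orderOf x = 2) :
    Nat.card (fixedBy Ω x) = if Even (Fintype.card Ω) then 0 else 1 := by
  classical
  have hxx : x * x = 1 := by rw [← pow_two, ← hx, pow_orderOf_eq_one]
  have hx1 : x ≠ 1 := fun h => by rw [h, orderOf_one] at hx; omega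
  have hle : Nat.card (fixedBy Ω x) ≤ 1 := by
    rw [Finite.card_le_one_iff_subsingleton]
    refine ⟨fun p q => Subtype.ext (by_contra fun hne => hx1 (ne_one_of_sq_fix S hne p.2 q.2 hxx))⟩
  have hpar : Fintype.card Ω % 2 = Nat.card (fixedBy Ω x) % 2 := by
    haveI : Fact (Nat.Prime 2) := ⟨Nat.prime_two⟩
    let f : Equiv.Perm Ω := MulAction.toPerm x
    have hf : f ^ 2 = 1 := Equiv.ext fun w => by
      show x • x • w = w
      rw [← mul_smul, hxx, one_smul]
    have h := Equiv.Perm.card_compl_support_modEq (p := 2) (n := 1) (σ := f) (by rw [pow_one]; exact hf)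
    rw [show f.supportᶜ = Finset.univ.filter (fun w => x • w = w) by
      ext w; simp [f]] at h
    rw [Nat.card_eq_fintype_card]
    have e' : Fintype.card (fixedBy Ω x) = (Finset.univ.filter (fun w => x • w = w)).card :=
      Fintype.card_of_subtype _ (fun w => by simp [mem_fixedBy])
    rw [e']
    exact h.symm
  split_ifs with hn
  · rw [Nat.even_iff] at hn; omega
  · rw [Nat.not_even_iff] at hn; omega

theorem card_involutions [Nontrivial Ω] :
    Nat.card {x : G // orderOf x = 2} * (Fintype.card Ω - if Even (Fintype.card Ω) then 0 else 1) =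
      Fintype.card Ω * (Fintype.card Ω - 1) * e := by
  classical
  haveI := Fintype.ofFinite G
  set I := Finset.univ.filter (fun x : G => orderOf x = 2) with hI
  have h1 : ∀ x ∈ I, (Finset.univ.filter (fun c : Ω => x • c ≠ c)).card =
      Fintype.card Ω - if Even (Fintype.card Ω) then 0 else 1 := by
    intro x hx
    rw [← fixed_involution S (Finset.mem_filter.mp hx).2, Nat.card_eq_fintype_card,
      Finset.filter_not, Finset.card_sdiff_of_subset (Finset.subset_univ _), Finset.card_univ]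
    congr 1
    exact (Fintype.card_of_subtype _ (fun w => by simp [mem_fixedBy])).symm
  have h2 : ∀ c : Ω, (I.filter fun x => x • c ≠ c).card = (Fintype.card Ω - 1) * e := by
    intro c
    rw [Finset.card_eq_sum_card_fiberwise (f := fun x : G => x • c) (t := Finset.univ.erase c)
      (fun x hx => Finset.mem_erase.mpr ⟨(Finset.mem_filter.mp hx).2, Finset.mem_univ _⟩)]
    have h3 : ∀ d ∈ Finset.univ.erase c, ((I.filter fun x => x • c ≠ c).filter fun x => x • c = d).card = e := by
      intro d hd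
      have hdc := (Finset.mem_erase.mp hd).1
      rw [← card_swap S hdc.symm, Nat.card_eq_fintype_card]
      refine (Fintype.card_of_subtype _ fun x => ?_).symm
      rw [← involution_iff_swap S hdc.symm x]
      simp only [hI, Finset.mem_filter, Finset.mem_univ, true_and]
      exact ⟨fun h => ⟨h.1.1, h.2⟩, fun h => ⟨⟨h.1, h.2 ▸ hdc⟩, h.2⟩⟩
    rw [Finset.sum_congr rfl h3, Finset.sum_const, Finset.card_erase_of_mem (Finset.mem_univ c),
      Finset.card_univ, smul_eq_mul]
  have h3 : ∑ x ∈ I, (Finset.univ.filter (fun c : Ω => x • c ≠ c)).card =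
      ∑ c : Ω, (I.filter fun x => x • c ≠ c).card :=
    Finset.sum_card_bipartiteAbove_eq_sum_card_bipartiteBelow _
  rw [Finset.sum_congr rfl h1, Finset.sum_congr rfl (fun c _ => h2 c), Finset.sum_const,
    Finset.sum_const, smul_eq_mul, smul_eq_mul, Finset.card_univ] at h3
  have h4 : Nat.card {x : G // orderOf x = 2} = I.card := by
    rw [Nat.card_eq_fintype_card]
    exact Fintype.card_of_subtype _ fun x => by simp [hI]
  rw [h4, h3, mul_assoc]

theorem conj_involutions [Nontrivial Ω] (x y : G) (hx : orderOf x = 2) (hy : orderOf y = 2) :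
    IsConj x y := by
  classical
  have hmove : ∀ x : G, orderOf x = 2 → ∃ c : Ω, x • c ≠ c := by
    intro x hx
    by_contra hcon
    push Not at hcon
    haveI := S.grp.faith
    have : x = 1 := FaithfulSMul.eq_of_smul_eq_smul (α := Ω) fun c => by rw [hcon c, one_smul]
    rw [this, orderOf_one] at hx
    omega
  obtain ⟨c, hc⟩ : ∃ c : Ω, x • c ≠ c := hmove x hx
  obtain ⟨c', hc'⟩ := hmove y hy
  set d := x • c
  set d' := y • c'
  have hcd : c ≠ d := Ne.symm hc
  have hcd' : c' ≠ d' := Ne.symm hc'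
  obtain ⟨g, hgc, hgd⟩ := PermGp.two_trans_exists S.grp.two hcd' hcd
  set z := g * y * g⁻¹ with hz
  have hz2 : orderOf z = 2 := by
    rw [hz, ← hy]
    exact orderOf_injective (MulAut.conj g).toMonoidHom (MulAut.conj g).injective y
  have hzc : z • c = d := by
    rw [hz, mul_smul, mul_smul, ← hgc, inv_smul_smul, hgd]
  obtain ⟨hx1, hx2⟩ := (involution_iff_swap S hcd x).mp ⟨hx, rfl⟩
  obtain ⟨hz1, hz2'⟩ := (involution_iff_swap S hcd z).mp ⟨hz2, hzc⟩
  set k := x⁻¹ * z with hk
  have hkE : k ∈ stabilizer G c ⊓ stabilizer G d :=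
    Subgroup.mem_inf.mpr ⟨by rw [mem_stabilizer_iff, hk, mul_smul, hz1, inv_smul_eq_iff, hx1],
      by rw [mem_stabilizer_iff, hk, mul_smul, hz2', inv_smul_eq_iff, hx2]⟩
  obtain ⟨m, hm⟩ : ∃ m, orderOf k = 2 * m + 1 := by
    have h := Subgroup.orderOf_dvd_natCard _ hkE
    rw [S.stab_card c d hcd] at h
    exact (S.odd.of_dvd_nat h)
  set r := k ^ (m + 1) with hr
  have hrr : r * r = k := by
    rw [hr, ← pow_add, show m + 1 + (m + 1) = orderOf k + 1 by omega, pow_succ, pow_orderOf_eq_one, one_mul]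
  obtain ⟨hxx, -, hinv⟩ := swap_inv S hcd hx1 hx2 (Subgroup.pow_mem _ hkE (m + 1))
  have hxi : x⁻¹ = x := inv_eq_of_mul_eq_one_right hxx
  have h1 : r⁻¹ * x * r = z := by
    have h' : r⁻¹ * x = x * r := by
      rw [← hinv]
      show x * r * x⁻¹ * x = x * r
      rw [inv_mul_cancel_right]
    rw [h', mul_assoc, hrr, hk, mul_inv_cancel_left]
  refine (isConj_iff.mpr ⟨r⁻¹, ?_⟩ : IsConj x z).trans (isConj_iff.mpr ⟨g⁻¹, ?_⟩)
  · rw [inv_inv, h1]
  · rw [hz]; group

/-- An element of the kernel that is a product of two involutions. -/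
theorem kernel_involutions {a : Ω} {F : Subgroup G} (hF : ZKer a F) {b : Ω} (hab : a ≠ b) {u x y : G}
    (hu : u ∈ F) (hu1 : u ≠ 1) (hx : orderOf x = 2) (hy : orderOf y = 2) (hxy : x * y = u) :
    x ∈ F ∧ y ∈ F := by
  have hsq : ∀ w : G, orderOf w = 2 → w * w = 1 := fun w hw => by
    rw [← pow_two, ← hw, pow_orderOf_eq_one]
  have hfix : ∀ c, u • c = c → c = a := fun c hc => by
    by_contra hca
    exact hu1 (hF.semi u hu c hca hc)
  have hxi : x⁻¹ = x := inv_eq_of_mul_eq_one_right (hsq x hx)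
  have hxu : x * u = u⁻¹ * x := by
    rw [← hxy, ← mul_assoc, hsq x hx, one_mul, mul_inv_rev, hxi,
      inv_eq_of_mul_eq_one_right (hsq y hy), mul_assoc, hsq x hx, mul_one]
  have hxa : x • a = a := hfix _ (by
    have h1 : u⁻¹ • (x • a) = x • a := by rw [← mul_smul, ← hxu, mul_smul, hF.fix u hu]
    exact (inv_smul_eq_iff.mp h1).symm)
  have hxF : x ∈ F := by
    by_contra hxF
    obtain ⟨c, hca, hc⟩ := ZassNormal.exists_ne_fixed hF S.grp hxa hxF
    have : x = 1 := ne_one_of_sq_fix S hca hc hxa (hsq x hx)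
    rw [this, orderOf_one] at hx
    omega
  refine ⟨hxF, ?_⟩
  rw [show y = x * u by rw [← hxy, ← mul_assoc, hsq x hx, one_mul]]
  exact F.mul_mem hxF hu

/-- Involutions of the kernel commute. -/
theorem involutions_commute {a b : Ω} (hab : a ≠ b) {F : Subgroup G} (hF : ZKer a F) {x y : G}
    (hxF : x ∈ F) (hyF : y ∈ F) (hx : orderOf x = 2) (hy : orderOf y = 2) : x * y = y * x := by
  classical
  haveI : Nontrivial Ω := ⟨a, b, hab⟩
  set B := stabilizer G a with hB
  have hFB : F ≤ B := fun u hu => hF.fix u hu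
  set N := F.subgroupOf B with hN
  haveI : N.Normal := ⟨fun n hn g => hF.conj g g.2 n hn⟩
  -- a fixed-point-free element of prime order
  have hecard := S.stab_card a b hab
  obtain ⟨q, hq, hqd⟩ := Nat.exists_prime_and_dvd (one_lt S hab).ne'
  haveI := Fact.mk hq
  obtain ⟨k, hk⟩ := exists_prime_orderOf_dvd_card' (G := ↥(stabilizer G a ⊓ stabilizer G b : Subgroup G)) q
    (hecard.symm ▸ hqd)
  obtain ⟨hka, hkb⟩ := Subgroup.mem_inf.mp k.2
  set kB : B := ⟨(k : G), hka⟩
  have hkB : orderOf kB = q := by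
    rw [← Subgroup.orderOf_coe, show ((kB : B) : G) = (k : G) from rfl, Subgroup.orderOf_coe, hk]
  have hk1 : (k : G) ≠ 1 := fun h => by
    rw [← Subgroup.orderOf_coe, h, orderOf_one] at hk
    exact hq.ne_one hk.symm
  haveI : Group.IsNilpotent N := Basics.isNilpotent_of_conj_fpf N hkB fun n hn hcomm => by
    by_contra hn1
    refine hk1 (hF.fpf S.grp hab (g := (k : G)) hka hkb (u := (n : G)) hn (fun h => hn1 (Subtype.ext h)) ?_)
    have h' : (k : G) * n = n * k := congrArg Subtype.val hcomm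
    rw [h', mul_inv_cancel_right]
  -- a central involution
  have hxN : (⟨x, hFB hxF⟩ : B) ∈ N := hxF
  have h2N : 2 ∣ Nat.card N := by
    have h1 : orderOf (⟨⟨x, hFB hxF⟩, hxN⟩ : N) = 2 := by
      rw [← Subgroup.orderOf_coe, ← Subgroup.orderOf_coe]; exact hx
    exact h1 ▸ orderOf_dvd_natCard _
  haveI : Fact (Nat.Prime 2) := ⟨Nat.prime_two⟩
  let P : Sylow 2 N := default
  haveI hPn : (P : Subgroup N).Normal :=
    P.normal_of_normalizerCondition Group.normalizerCondition_of_isNilpotent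
  haveI : Nontrivial P := by
    rw [Subgroup.nontrivial_iff_ne_bot]
    exact P.ne_bot_of_dvd_card h2N
  haveI := P.2.center_nontrivial
  obtain ⟨zz, hzz⟩ := exists_prime_orderOf_dvd_card' (G := Subgroup.center P) 2 (by
    obtain ⟨n, hn⟩ := IsPGroup.iff_card.mp (P.2.to_subgroup (Subgroup.center P))
    have : n ≠ 0 := fun h => by
      have h1 := (Finite.one_lt_card : 1 < Nat.card (Subgroup.center P))
      rw [hn, h, pow_zero] at h1
      omega
    rw [hn]; exact dvd_pow_self 2 this)
  set zN : N := ((zz : P) : N) with hzN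
  set z : G := ((zN : B) : G) with hz
  have hzF : z ∈ F := zN.2
  have hz2 : orderOf z = 2 := by
    rw [hz, Subgroup.orderOf_coe, Subgroup.orderOf_coe, hzN, Subgroup.orderOf_coe, Subgroup.orderOf_coe, hzz]
  have hzc : ∀ w ∈ F, orderOf w = 2 → z * w = w * z := by
    intro w hw hw2
    set wN : N := ⟨⟨w, hFB hw⟩, hw⟩
    have hwP : wN ∈ (P : Subgroup N) := by
      have hP : IsPGroup 2 (Subgroup.zpowers wN) := IsPGroup.of_card (n := 1) (by
        rw [Nat.card_zpowers, ← Subgroup.orderOf_coe, ← Subgroup.orderOf_coe, pow_one]; exact hw2)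
      obtain ⟨Q, hQ⟩ := hP.exists_le_sylow
      letI := P.unique_of_normal hPn
      rw [Subsingleton.elim Q P] at hQ
      exact hQ (Subgroup.mem_zpowers wN)
    have h := Subgroup.mem_center_iff.mp zz.2 ⟨wN, hwP⟩
    exact (congrArg (fun p : P => (((p : N) : B) : G)) h).symm
  -- move `x` onto `z`
  obtain ⟨g, hg⟩ := isConj_iff.mp (conj_involutions S x z hx hz2)
  have hga : g • a = a := by
    have h1 : z • (g • a) = g • a := by rw [← hg, mul_smul, mul_smul, inv_smul_smul, hF.fix x hxF]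
    by_contra hne
    have := hF.semi z hzF (g • a) hne h1
    rw [this, orderOf_one] at hz2
    omega
  have h := hzc (g * y * g⁻¹) (hF.conj g hga y hyF) (by
    rw [← hy]; exact orderOf_injective (MulAut.conj g).toMonoidHom (MulAut.conj g).injective y)
  rw [← hg] at h
  have h' : g * (x * y) * g⁻¹ = g * (y * x) * g⁻¹ := by
    calc g * (x * y) * g⁻¹ = g * x * g⁻¹ * (g * y * g⁻¹) := by group
      _ = g * y * g⁻¹ * (g * x * g⁻¹) := h
      _ = g * (y * x) * g⁻¹ := by group
  exact mul_left_cancel (mul_right_cancel h')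

end Cfsg.Agent.ZassOdd
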