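import Cfsg.Agent.Lib.CohExt.FrobSet
import Cfsg.Agent.Lib.CohExt.TIInd
import Cfsg.Agent.Lib.OddChar.Lattice
import Cfsg.Agent.Lib.OddChar.Coherence

/-!
# Degrees forced by coherence in a doubly transitive group with Frobenius stabiliser
-/

set_option autoImplicit false
set_option linter.all false

namespace Cfsg.Agent.ZassOdd.Coh

open scoped ComplexConjugate commutatorElement
open Cfsg.Agent.CohExt.FrobSet Cfsg.Agent.CT.FrobKernel
open Cfsg.Agent.OddChar (IsSigned)

universe u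

section degs

variable {M : Type u} [Group M] [Fintype M] (N : Subgroup M) [N.Normal]

/-- A character trivial on a subgroup with abelian quotient is linear. -/
theorem linear_of_not_nt (hab : ∀ x y : M, x * y * x⁻¹ * y⁻¹ ∈ N) {μ : M → ℂ} (hμ : IsIrrCharacter M μ)
    (h : ¬ NT N μ) : μ 1 = 1 ∧ ∀ n ∈ N, μ n = 1 := by
  have hk : ∀ n ∈ N, μ n = μ 1 := fun n hn => restrict_eq_of_not_nt N h ⟨n, hn⟩
  obtain ⟨ψ, hψ, he⟩ := CT.exists_quotient_irr hμ N hk
  have h1 : μ 1 = 1 := by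
    rw [← he 1]
    refine CT.irr_degree_one_of_comm (fun x y => ?_) hψ
    induction x using QuotientGroup.induction_on with | _ a =>
    induction y using QuotientGroup.induction_on with | _ b =>
    rw [← QuotientGroup.mk_mul, ← QuotientGroup.mk_mul, eq_comm, QuotientGroup.eq]
    have := hab a⁻¹ b⁻¹
    simpa [mul_assoc] using this
  exact ⟨h1, fun n hn => (hk n hn).trans h1⟩

/-- A linear character with values in `±1` on a group with odd index over its kernel is principal. -/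
theorem eq_one_of_real (hodd : Odd N.index) {μ : M → ℂ} (hμ : IsIrrCharacter M μ) (h1 : μ 1 = 1)
    (hN : ∀ n ∈ N, μ n = 1) (hr : (fun x => conj (μ x)) = μ) : μ = fun _ => 1 := by
  obtain ⟨l, rfl⟩ := CT.exists_hom_of_degree_one (CT.isCharacter_of_isIrr hμ) h1
  funext x
  have hc : conj (l x : ℂ) = ((l x)⁻¹ : ℂˣ) := by
    rw [← CT.char_inv_eq_conj (CT.isCharacter_of_isIrr hμ) x, map_inv]
  have hsq : (l x : ℂ) * (l x : ℂ) = 1 := by
    have h := congrFun hr x
    dsimp only at h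
    rw [hc] at h
    nth_rewrite 1 [← h]
    exact Units.inv_mul (l x)
  have hp : (l x : ℂ) ^ N.index = 1 := by
    rw [← Units.val_pow_eq_pow_val, ← map_pow]
    exact hN _ (N.pow_index_mem x)
  obtain ⟨k, hk⟩ := hodd
  rw [hk, pow_succ, pow_mul, pow_two, hsq, one_pow, one_mul] at hp
  exact hp

open Classical in
theorem card_linear (hC : ∀ n ∈ N, n ≠ 1 → Subgroup.centralizer ({n} : Set M) ≤ N)
    (hab : ∀ x y : M, x * y * x⁻¹ * y⁻¹ ∈ N) :
    (Finset.univ.filter fun μ : IrrCharacter M => ¬ NT N (μ : M → ℂ)).card = N.index := by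
  classical
  set S := Finset.univ.filter fun μ : IrrCharacter M => NT N (μ : M → ℂ) with hS
  have himg : ∑ μ ∈ S, CT.deg (μ : M → ℂ) ^ 2 = ∑ φ ∈ ntAbove N ⊥, CT.deg φ ^ 2 := by
    refine Finset.sum_bij (fun μ _ => (μ : M → ℂ))
      (fun μ hμ => (mem_bot_iff N hC).mpr ⟨μ.2, (Finset.mem_filter.mp hμ).2⟩)
      (fun x _ y _ e => Subtype.ext e) (fun φ hφ => ?_) (fun _ _ => rfl)
    obtain ⟨h1, h2⟩ := (mem_bot_iff N hC).mp hφ
    exact ⟨⟨φ, h1⟩, Finset.mem_filter.mpr ⟨Finset.mem_univ _, h2⟩, rfl⟩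
  have htot : ∑ μ : IrrCharacter M, CT.deg (μ : M → ℂ) ^ 2 = Nat.card M := by
    have h := CT.sum_degree_sq (G := M)
    simp only [fun μ : IrrCharacter M => CT.deg_eq (CT.isCharacter_of_isIrr μ.2)] at h
    exact_mod_cast h
  have hsplit := Finset.sum_filter_add_sum_filter_not Finset.univ (fun μ : IrrCharacter M => NT N (μ : M → ℂ))
    (fun μ => CT.deg (μ : M → ℂ) ^ 2)
  rw [← hS, himg, htot, ← N.card_mul_index] at hsplit
  rw [Finset.sum_congr (s₁ := Finset.univ.filter fun μ : IrrCharacter M => ¬ NT N (μ : M → ℂ)) rfl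
    (g := fun _ => 1) fun μ hμ => by
    have h1 := (linear_of_not_nt N hab μ.2 (Finset.mem_filter.mp hμ).2).1
    rw [CT.deg_eq (CT.isCharacter_of_isIrr μ.2)] at h1
    rw [show CT.deg (μ : M → ℂ) = 1 by exact_mod_cast h1, one_pow], Finset.sum_const, smul_eq_mul,
    mul_one] at hsplit
  have h := sum_deg N hC (⊥ : Subgroup M)
  rw [Subgroup.relIndex_bot_left, Nat.mul_comm N.index] at h
  omega

end degs

section arith

theorem gamma_eq {e h A γ : ℤ} (he : 1 < e) (hA : 3 ≤ A) (hh : h = e * A + 1)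
    (h1 : e - 1 = 2 * γ * (γ * A + 2)) (hdvd : γ * A + 1 ∣ (h + 1) * h) : γ = -1 := by
  have key : (γ * A + 1) * (e - 2 * γ) - γ * (h + 1) = 1 := by
    rw [hh]; linear_combination h1
  have hcop : IsCoprime (γ * A + 1) (h + 1) := ⟨e - 2 * γ, -γ, by linear_combination key⟩
  have hkh : γ * A + 1 ∣ h := hcop.dvd_of_dvd_mul_left hdvd
  have hk : γ * A + 1 ∣ γ + 1 := by
    have h2 : γ + 1 = (γ * A + 1) * (e - 2 * γ) - γ * h := by linear_combination -key
    rw [h2]
    exact dvd_sub (dvd_mul_right _ _) (dvd_mul_of_dvd_right hkh _)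
  by_contra hne
  have hne' : γ + 1 ≠ 0 := fun h => hne (by omega)
  rcases lt_trichotomy γ 0 with hlt | rfl | hgt
  · have h2 : γ ≤ -2 := by omega
    have h3 := Int.le_of_dvd (show 0 < -(γ + 1) by omega) (Int.neg_dvd.mpr (Int.dvd_neg.mpr hk))
    nlinarith
  · simp at h1
    omega
  · have h3 := Int.le_of_dvd (show 0 < γ + 1 by omega) hk
    nlinarith

end arith

variable {G : Type u} [Group G] [Fintype G]

open Classical in
/-- The numerical consequence of coherence. -/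
theorem degree_formula (L : Subgroup G) [Fintype L] (N : Subgroup L) [N.Normal]
    (hC : ∀ n ∈ N, n ≠ 1 → Subgroup.centralizer ({n} : Set L) ≤ N)
    (hab : ∀ x y : L, x * y * x⁻¹ * y⁻¹ ∈ N) (he2 : 2 ≤ N.index) (hodd : Odd N.index)
    (hbig : 2 * N.index + 1 < Nat.card N)
    (hG : Nat.card G = (Nat.card N + 1) * Nat.card N * N.index)
    (hsupp : ∀ φ : L → ℂ, IsClassFunction L φ → (∀ x, x ∉ N → φ x = 0) → ∀ x : L,
      indFun L φ x = φ x + if x = 1 then (Nat.card N : ℂ) * φ 1 else 0)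
    (hlin : ∀ μ ν : L → ℂ, IsIrrCharacter L μ → μ 1 = 1 → (∀ n ∈ N, μ n = 1) →
      IsIrrCharacter L ν → ν 1 = 1 → (∀ n ∈ N, ν n = 1) →
      classInner (fun x : L => indFun L μ x) ν =
        (if μ = ν then 1 else 0) + (if (fun x => conj (μ x)) = ν then 1 else 0))
    (hcoh : IsCoherent (↑(ntAbove N ⊥) : Set (L → ℂ)) {1}ᶜ (fun α : L → ℂ => indFun L α)) :
    ∃ A : ℕ, 3 ≤ A ∧ N.index + 3 = 2 * A ∧ Nat.card N = N.index * A + 1 := by
  classical
  set e := N.index with he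
  set h := Nat.card N with hh
  set T := ntAbove N (⊥ : Subgroup L) with hT
  have he0 : 0 < e := by omega
  have hLcard : Nat.card L = h * e := N.card_mul_index.symm
  have hLne : (Nat.card L : ℂ) ≠ 0 := Nat.cast_ne_zero.mpr Nat.card_pos.ne'
  have hidx : L.index = h + 1 := by
    have := L.card_mul_index
    rw [hG, hLcard] at this
    refine Nat.eq_of_mul_eq_mul_left (show 0 < h * e from Nat.mul_pos Nat.card_pos he0) ?_
    rw [this]; ring
  obtain ⟨-, τ1, hiso, hext⟩ := hcoh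
  -- the characters induced from nonprincipal characters of `N`
  have hirr : ∀ φ ∈ T, IsIrrCharacter L φ := fun φ hφ => irr_of_mem N hC hφ
  have hvan : ∀ φ ∈ T, IsClassFunction L φ ∧ ∀ x, x ∉ N → φ x = 0 := fun φ hφ =>
    let p := CohExt.TIInd.zspan_props L N hC (OddChar.zspan_self (Finset.mem_coe.mpr hφ))
    ⟨p.1, p.2.2⟩
  let a : (L → ℂ) → ℕ := fun φ => CT.deg φ / e
  have hdeg : ∀ φ ∈ T, φ 1 = (e : ℂ) * (a φ : ℂ) := by
    intro φ hφ
    obtain ⟨θ, -, -, -, -, hd⟩ := exists_theta N hC hφ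
    rw [CT.deg_eq (CT.isCharacter_of_isIrr (hirr φ hφ))]
    show (CT.deg φ : ℂ) = (e : ℂ) * ((CT.deg φ / e : ℕ) : ℂ)
    rw [hd, ← he, Nat.mul_div_cancel_left _ he0, Nat.cast_mul]
  have hapos : ∀ φ ∈ T, a φ ≠ 0 := fun φ hφ h0 => CT.irr_one_ne_zero (hirr φ hφ) (by
    rw [hdeg φ hφ, h0, Nat.cast_zero, mul_zero])
  set A := ∑ φ ∈ T, a φ ^ 2 with hA
  have hAh : e * A + 1 = h := by
    have hs := sum_deg N hC (⊥ : Subgroup L)
    rw [Subgroup.relIndex_bot_left, Finset.sum_congr rfl (g := fun φ => e ^ 2 * a φ ^ 2) fun φ hφ => by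
      have := hdeg φ hφ
      rw [CT.deg_eq (CT.isCharacter_of_isIrr (hirr φ hφ))] at this
      rw [← mul_pow]
      congr 1
      exact_mod_cast this, ← Finset.mul_sum, ← hA, ← he, ← hh] at hs
    refine Nat.eq_of_mul_eq_mul_left he0 ?_
    rw [← hs]; ring
  have hA3 : 3 ≤ A := by
    by_contra hc
    have : e * A ≤ e * 2 := Nat.mul_le_mul_left e (by omega)
    omega
  obtain ⟨ψ0, hψ0, ha0⟩ : ∃ ψ ∈ T, a ψ = 1 := by
    have hN1 : N ≠ ⊥ := fun e1 => by
      rw [hh, e1, Subgroup.card_bot] at hbig; omega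
    have hNt : N ≠ ⊤ := fun e1 => by
      rw [he, e1, Subgroup.index_top] at he2; omega
    haveI := OddChar.frob_nilpotent N hC hN1 hNt
    haveI : Group.IsSolvable N := inferInstance
    haveI : Nontrivial N := (Subgroup.nontrivial_iff_ne_bot _).mpr hN1
    have hcm := card_mul N hC ⁅N, N⁆ le_rfl
    obtain ⟨ψ, hψ⟩ : (ntAbove N ⁅N, N⁆).Nonempty := by
      rw [← Finset.card_pos]
      by_contra h0
      push Not at h0
      rw [Nat.le_zero.mp h0, zero_mul, zero_add] at hcm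
      have hc' : (commutator N).index = 1 := by
        rw [hcm]
        show _ = (⁅N, N⁆.subgroupOf N).index
        congr 1
        apply Subgroup.map_injective N.subtype_injective
        rw [Subgroup.map_subgroupOf_eq_of_le (Subgroup.commutator_le_left N N), Subgroup.map_subtype_commutator]
      exact (Group.IsSolvable.commutator_lt_top_of_nontrivial (G := N)).ne (Subgroup.index_eq_one.mp hc')
    refine ⟨ψ, ntAbove_subset N _ hψ, ?_⟩
    show CT.deg ψ / e = 1
    rw [deg_of_comm N hC le_rfl hψ, ← he, Nat.div_self he0]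
  obtain ⟨φ1, hφ1, hφ1ne⟩ : ∃ φ ∈ T, φ ≠ ψ0 := by
    by_contra! hall
    have : T = {ψ0} := Finset.eq_singleton_iff_unique_mem.mpr ⟨hψ0, hall⟩
    rw [hA, this, Finset.sum_singleton, ha0] at hA3
    norm_num at hA3
  -- the coherent images
  let σ : (L → ℂ) → (G → ℂ) := τ1
  have hon : ∀ φ ∈ T, ∀ ψ ∈ T, classInner (σ φ) (σ ψ) = if φ = ψ then 1 else 0 := by
    intro φ hφ ψ hψ
    rw [hiso.2.2.1 φ (OddChar.zspan_self hφ) ψ (OddChar.zspan_self hψ), CT.irr_inner (hirr φ hφ) (hirr ψ hψ)]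
  have hσgen : ∀ φ ∈ T, IsGeneralizedCharacter G (σ φ) := fun φ hφ => hiso.2.2.2 φ (OddChar.zspan_self hφ)
  have hσsig : ∀ φ ∈ T, IsSigned (σ φ) := fun φ hφ =>
    OddChar.isSigned_of_norm_one (hσgen φ hφ) (by rw [hon φ hφ φ hφ, if_pos rfl])
  let Φ : (L → ℂ) → (G → ℂ) := fun φ => indFun L φ
  have hΦgen : ∀ φ ∈ T, IsGeneralizedCharacter G (Φ φ) := fun φ hφ =>
    CT.isGen_indFun L (CT.isGen_of_isIrr (hirr φ hφ))
  set W : G → ℂ := Φ ψ0 - σ ψ0 with hW
  have hrel : ∀ φ ∈ T, σ φ = Φ φ - (a φ : ℂ) • W := by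
    intro φ hφ
    have hz := OddChar.zspan_smul (S := (↑T : Set (L → ℂ))) (-(a φ : ℤ)) (OddChar.zspan_self (Finset.mem_coe.mpr hψ0))
    have hmem : φ + (-(a φ : ℤ)) • ψ0 ∈ zspanOn (↑T : Set (L → ℂ)) {1}ᶜ := by
      refine OddChar.zspanOn_iff.mpr ⟨OddChar.zspan_add (OddChar.zspan_self (Finset.mem_coe.mpr hφ)) hz, ?_⟩
      simp [hdeg φ hφ, hdeg ψ0 hψ0, ha0]
      ring
    have h1 : τ1 (φ + (-(a φ : ℤ)) • ψ0) = indFun L (φ + (-(a φ : ℤ)) • ψ0) := hext _ hmem
    rw [hiso.1 φ (OddChar.zspan_self hφ) _ hz, hiso.2.1 ψ0 (OddChar.zspan_self hψ0), CT.indFun_add,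
      show indFun L ((-(a φ : ℤ)) • ψ0) = (-(a φ : ℤ)) • indFun L ψ0 by
        rw [← Int.cast_smul_eq_zsmul ℂ, CT.indFun_smul, Int.cast_smul_eq_zsmul]] at h1
    simp only [← Int.cast_smul_eq_zsmul ℂ, Int.cast_neg, Int.cast_natCast] at h1
    funext x
    have h2 := congrFun h1 x
    simp only [Pi.add_apply, Pi.smul_apply, smul_eq_mul] at h2
    simp only [hW, Pi.sub_apply, Pi.smul_apply, smul_eq_mul, Φ, σ]
    linear_combination h2
  -- inner products with induced characters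
  have hres : ∀ φ ∈ T, ∀ θ : L → ℂ, classInner θ (fun x : L => Φ φ x) =
      classInner θ φ + (e : ℂ)⁻¹ * (θ 1 * ((e : ℂ) * (a φ : ℂ))) := by
    intro φ hφ θ
    rw [show (fun x : L => Φ φ x) = φ + fun x : L => if x = 1 then (h : ℂ) * φ 1 else 0 from
      funext fun x => hsupp φ (hvan φ hφ).1 (hvan φ hφ).2 x, CT.classInner_add_right]
    congr 1
    unfold classInner
    rw [Finset.sum_eq_single (1 : L) (fun x _ hx => by simp only [if_neg hx, map_zero, mul_zero])
      (fun hx => absurd (Finset.mem_univ _) hx)]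
    simp only [ite_true]
    rw [map_mul, Complex.conj_natCast, hdeg φ hφ,
      map_mul, Complex.conj_natCast, Complex.conj_natCast, hLcard]
    push_cast
    have hne : (h : ℂ) ≠ 0 := Nat.cast_ne_zero.mpr Nat.card_pos.ne'
    have hne' : (e : ℂ) ≠ 0 := Nat.cast_ne_zero.mpr he0.ne'
    field_simp
  have heC : (e : ℂ) ≠ 0 := Nat.cast_ne_zero.mpr he0.ne'
  have hgram : ∀ φ ∈ T, ∀ ψ ∈ T, classInner (Φ φ) (Φ ψ) = (if φ = ψ then 1 else 0) + (e : ℂ) * a φ * a ψ := by
    intro φ hφ ψ hψ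
    rw [CT.frobenius_reciprocity L φ (CT.isClassFunction_indFun L ψ), hres ψ hψ φ,
      CT.irr_inner (hirr φ hφ) (hirr ψ hψ), hdeg φ hφ]
    field_simp
  have hPgen := hΦgen ψ0 hψ0
  have hWgen : IsGeneralizedCharacter G W := CT.isGen_sub hPgen (hσgen ψ0 hψ0)
  obtain ⟨γ, hγ⟩ := CT.isGen_inner_int hWgen (hσgen ψ0 hψ0)
  have hPσ : classInner (Φ ψ0) (σ ψ0) = γ + 1 := by
    rw [hW, CT.classInner_sub_left, hon ψ0 hψ0 ψ0 hψ0, if_pos rfl] at hγ
    linear_combination hγ
  have hσW : classInner (σ ψ0) W = γ := by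
    rw [← CT.classInner_conj_symm, hγ, map_intCast]
  have hWW : classInner W W = (e : ℂ) - 2 * γ := by
    nth_rewrite 1 [hW]
    rw [CT.classInner_sub_left, hσW, hW, CT.classInner_sub_right, hgram ψ0 hψ0 ψ0 hψ0, if_pos rfl, ha0, hPσ]
    push_cast; ring
  have hWσ : ∀ φ ∈ T, classInner W (σ φ) = (a φ : ℂ) * γ := by
    intro φ hφ
    have e1 : classInner (σ ψ0) (Φ φ) = (if ψ0 = φ then 1 else 0) + (a φ : ℂ) * γ := by
      rw [show Φ φ = σ φ + (a φ : ℂ) • W by rw [hrel φ hφ]; abel, CT.classInner_add_right,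
        CT.classInner_smul_right, hon ψ0 hψ0 φ hφ, hσW, Complex.conj_natCast]
    have e2 : classInner W (Φ φ) = (a φ : ℂ) * ((e : ℂ) - γ) := by
      rw [hW, CT.classInner_sub_left, hgram ψ0 hψ0 φ hφ, e1, ha0]
      push_cast; ring
    rw [hrel φ hφ, CT.classInner_sub_right, CT.classInner_smul_right, e2, hWW, Complex.conj_natCast]
    ring
  -- signed irreducibles proportional on the coherent set
  have horth : ∀ (R : G → ℂ) (c : ℂ), IsSigned R → (∀ φ ∈ T, classInner R (Φ φ) = (a φ : ℂ) * c) →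
      (∀ φ ∈ T, classInner R (σ φ) = 0) ∧ classInner R W = c := by
    intro R c hR hRc
    have hlin' : ∀ φ ∈ T, classInner R (σ φ) = (a φ : ℂ) * (c - classInner R W) := by
      intro φ hφ
      rw [hrel φ hφ, CT.classInner_sub_right, CT.classInner_smul_right, hRc φ hφ, Complex.conj_natCast]
      ring
    have hz : c - classInner R W = 0 := by
      by_contra hne
      have h0 := hlin' ψ0 hψ0
      rcases OddChar.isSigned_inner hR (hσsig ψ0 hψ0) with h' | ⟨d, -, -, rfl⟩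
      · rw [h', ha0] at h0
        exact hne (by simpa using h0.symm)
      · have h1 := hlin' φ1 hφ1
        rw [CT.classInner_smul_left, hon ψ0 hψ0 φ1 hφ1, if_neg (Ne.symm hφ1ne), mul_zero] at h1
        exact mul_ne_zero (Nat.cast_ne_zero.mpr (hapos φ1 hφ1)) hne h1.symm
    exact ⟨fun φ hφ => by rw [hlin' φ hφ, hz, mul_zero], (sub_eq_zero.mp hz).symm⟩
  set Wp : G → ℂ := W - (γ : ℂ) • ∑ φ ∈ T, (a φ : ℂ) • σ φ with hWp
  have hWpσ : ∀ φ ∈ T, classInner Wp (σ φ) = 0 := by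
    intro φ hφ
    rw [hWp, CT.classInner_sub_left, hWσ φ hφ, CT.classInner_smul_left, CT.classInner_sum_left,
      Finset.sum_eq_single φ (fun ψ hψ hne => by rw [CT.classInner_smul_left, hon ψ hψ φ hφ, if_neg hne, mul_zero])
        (fun hx => absurd hφ hx), CT.classInner_smul_left, hon φ hφ φ hφ, if_pos rfl]
    ring
  have hWpR : ∀ (R : G → ℂ) (c : ℂ), IsSigned R → (∀ φ ∈ T, classInner R (Φ φ) = (a φ : ℂ) * c) →
      classInner R Wp = c := by
    intro R c hR hRc
    obtain ⟨h1, h2⟩ := horth R c hR hRc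
    rw [hWp, CT.classInner_sub_right, h2, CT.classInner_smul_right, CT.classInner_sum_right,
      Finset.sum_eq_zero (fun φ hφ => by rw [CT.classInner_smul_right, h1 φ hφ, mul_zero]), mul_zero, sub_zero]
  have hWpnorm : classInner Wp Wp = (e : ℂ) - 2 * γ - (γ : ℂ) ^ 2 * A := by
    have hsum : ∀ φ ∈ T, classInner Wp ((a φ : ℂ) • σ φ) = 0 := fun φ hφ => by
      rw [CT.classInner_smul_right, hWpσ φ hφ, mul_zero]
    nth_rewrite 2 [hWp]
    rw [CT.classInner_sub_right, CT.classInner_smul_right, CT.classInner_sum_right, Finset.sum_eq_zero hsum,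
      mul_zero, sub_zero, hWp, CT.classInner_sub_left, CT.classInner_smul_left, CT.classInner_sum_left,
      hWW, Finset.sum_congr rfl (g := fun φ => (γ : ℂ) * ((a φ ^ 2 : ℕ) : ℂ)) fun φ hφ => by
        rw [CT.classInner_smul_left, ← CT.classInner_conj_symm, hWσ φ hφ, map_mul, Complex.conj_natCast,
          map_intCast]
        push_cast; ring,
      ← Finset.mul_sum, ← Nat.cast_sum, ← hA]
    ring
  -- the characters induced from linear characters
  set Lin := Finset.univ.filter fun μ : IrrCharacter L => ¬ NT N (μ : L → ℂ) with hLin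
  have hLinmem : ∀ μ ∈ Lin, (μ : L → ℂ) 1 = 1 ∧ ∀ n ∈ N, (μ : L → ℂ) n = 1 := fun μ hμ =>
    linear_of_not_nt N hab μ.2 (Finset.mem_filter.mp hμ).2
  have hone : CT.trivIrr L ∈ Lin := Finset.mem_filter.mpr ⟨Finset.mem_univ _, by
    rintro ⟨k, -, hk⟩; exact hk rfl⟩
  let R : IrrCharacter L → (G → ℂ) := fun μ => indFun L (μ : L → ℂ)
  have hRgen : ∀ μ : IrrCharacter L, IsGeneralizedCharacter G (R μ) := fun μ =>
    CT.isGen_indFun L (CT.isGen_of_isIrr μ.2)
  have hRR : ∀ μ ∈ Lin, ∀ ν ∈ Lin, classInner (R μ) (R ν) =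
      (if (μ : L → ℂ) = ν then 1 else 0) + (if (fun x => conj ((μ : L → ℂ) x)) = (ν : L → ℂ) then 1 else 0) := by
    intro μ hμ ν hν
    rw [CT.frobenius_reciprocity' L (CT.isClassFunction_indFun L _) (ν : L → ℂ)]
    exact hlin μ ν μ.2 (hLinmem μ hμ).1 (hLinmem μ hμ).2 ν.2 (hLinmem ν hν).1 (hLinmem ν hν).2
  have hRΦ : ∀ μ ∈ Lin, ∀ φ ∈ T, classInner (R μ) (Φ φ) = (a φ : ℂ) * 1 := by
    intro μ hμ φ hφ
    rw [CT.frobenius_reciprocity L _ (CT.isClassFunction_indFun L φ), hres φ hφ, (hLinmem μ hμ).1,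
      CT.irr_inner_of_ne μ.2 (hirr φ hφ) (fun e1 => (Finset.mem_filter.mp hμ).2
        (e1 ▸ ((mem_bot_iff N hC).mp hφ).2))]
    field_simp
    ring
  set Lin' := Lin.erase (CT.trivIrr L) with hLin'
  have hLinsig : ∀ μ ∈ Lin', IsSigned (R μ) := by
    intro μ hμ
    obtain ⟨hne, hμL⟩ := Finset.mem_erase.mp hμ
    refine OddChar.isSigned_of_norm_one (hRgen μ) ?_
    rw [hRR μ hμL μ hμL, if_pos rfl, if_neg, add_zero]
    intro hr
    exact hne (Subtype.ext (eq_one_of_real N hodd μ.2 (hLinmem μ hμL).1 (hLinmem μ hμL).2 hr))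
  let one : G → ℂ := fun _ => 1
  have honeirr : IsIrrCharacter G one := CT.isIrrCharacter_one
  have hRone : ∀ μ ∈ Lin, classInner (R μ) one = if μ = CT.trivIrr L then 1 else 0 := by
    intro μ hμ
    rw [CT.frobenius_reciprocity L _ (CT.isClassFunction_of_isIrr honeirr)]
    show classInner (μ : L → ℂ) (CT.trivIrr L : L → ℂ) = _
    rw [CT.irr_inner μ.2 (CT.trivIrr L).2]
    simp only [Subtype.ext_iff]
  have honeΦ : ∀ φ ∈ T, classInner one (Φ φ) = (a φ : ℂ) * 0 := by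
    intro φ hφ
    rw [CT.frobenius_reciprocity' L (CT.isClassFunction_of_isIrr honeirr) φ, mul_zero]
    show classInner (CT.trivIrr L : L → ℂ) φ = 0
    exact CT.irr_inner_of_ne (CT.trivIrr L).2 (hirr φ hφ)
      (fun e1 => (Finset.mem_filter.mp hone).2 (e1 ▸ ((mem_bot_iff N hC).mp hφ).2))
  set St : G → ℂ := R (CT.trivIrr L) - one with hSt
  have hone1 : classInner one one = 1 := CT.irr_inner_self honeirr
  have honeR : ∀ μ ∈ Lin, classInner one (R μ) = if μ = CT.trivIrr L then 1 else 0 := fun μ hμ => by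
    rw [← CT.classInner_conj_symm, hRone μ hμ]; split_ifs <;> simp
  have hRRone : classInner (R (CT.trivIrr L)) (R (CT.trivIrr L)) = 2 := by
    rw [hRR _ hone _ hone, if_pos rfl, if_pos (funext fun x => by simp)]
    norm_num
  have hStnorm : classInner St St = 1 := by
    rw [hSt, CT.classInner_sub_left, CT.classInner_sub_right, CT.classInner_sub_right, hRRone, hone1,
      hRone _ hone, honeR _ hone, if_pos rfl]
    norm_num
  have hStsig : IsSigned St :=
    OddChar.isSigned_of_norm_one (CT.isGen_sub (hRgen _) (CT.isGen_of_isIrr honeirr)) hStnorm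
  have hStΦ : ∀ φ ∈ T, classInner St (Φ φ) = (a φ : ℂ) * 1 := fun φ hφ => by
    rw [hSt, CT.classInner_sub_left, hRΦ _ hone φ hφ, honeΦ φ hφ]; ring
  set V : G → ℂ := (1 / 2 : ℂ) • (∑ μ ∈ Lin', R μ) + St with hV
  have hStR : ∀ μ ∈ Lin', classInner St (R μ) = 0 := by
    intro μ hμ
    obtain ⟨hne, hμL⟩ := Finset.mem_erase.mp hμ
    rw [hSt, CT.classInner_sub_left, honeR μ hμL, if_neg hne, hRR _ hone μ hμL, if_neg, if_neg]
    · simp
    · intro e1; exact hne (Subtype.ext (e1.symm.trans (funext fun x => by simp)))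
    · intro e1; exact hne (Subtype.ext e1.symm)
  have hsumR : ∀ ν ∈ Lin', classInner (∑ μ ∈ Lin', R μ) (R ν) = 2 := by
    intro ν hν
    obtain ⟨hne, hνL⟩ := Finset.mem_erase.mp hν
    have hν' := hLinmem ν hνL
    let νb : IrrCharacter L := ⟨fun x => conj ((ν : L → ℂ) x), CohExt.isIrr_conjFun ν.2⟩
    have hνb : νb ∈ Lin' := by
      refine Finset.mem_erase.mpr ⟨fun e1 => hne (Subtype.ext (funext fun x => ?_)),
        Finset.mem_filter.mpr ⟨Finset.mem_univ _, ?_⟩⟩
      · have : conj ((ν : L → ℂ) x) = 1 := congrFun (congrArg Subtype.val e1) x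
        simpa using congrArg conj this
      · rintro ⟨k, hk, hk'⟩
        exact hk' (show conj ((ν : L → ℂ) k) = conj ((ν : L → ℂ) 1) by rw [hν'.2 k hk, hν'.1])
    rw [CT.classInner_sum_left, Finset.sum_congr rfl fun μ hμ => hRR μ (Finset.mem_of_mem_erase hμ) ν hνL,
      Finset.sum_add_distrib, Finset.sum_eq_single ν (fun μ _ hμ => if_neg fun e1 => hμ (Subtype.ext e1))
        (fun hx => absurd hν hx), if_pos rfl,
      Finset.sum_eq_single νb (fun μ _ hμ => if_neg fun e1 => hμ (Subtype.ext (funext fun x => ?_)))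
        (fun hx => absurd hνb hx), if_pos (funext fun x => Complex.conj_conj _)]
    · norm_num
    · show (μ : L → ℂ) x = conj ((ν : L → ℂ) x)
      rw [← congrFun e1 x, Complex.conj_conj]
  have hVR : ∀ ν ∈ Lin', classInner V (R ν) = 1 := fun ν hν => by
    rw [hV, CT.classInner_add_left, CT.classInner_smul_left, hsumR ν hν, hStR ν hν]; norm_num
  have hRSt : ∀ μ ∈ Lin', classInner (R μ) St = 0 := fun μ hμ => by
    rw [← CT.classInner_conj_symm, hStR μ hμ, map_zero]
  have hVSt : classInner V St = 1 := by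
    rw [hV, CT.classInner_add_left, CT.classInner_smul_left, CT.classInner_sum_left,
      Finset.sum_eq_zero hRSt, hStnorm]
    simp
  have hV1 : classInner V one = 0 := by
    rw [hV, CT.classInner_add_left, CT.classInner_smul_left, CT.classInner_sum_left,
      Finset.sum_eq_zero (fun μ hμ => by
        rw [hRone μ (Finset.mem_of_mem_erase hμ), if_neg (Finset.ne_of_mem_erase hμ)]),
      hSt, CT.classInner_sub_left, hRone _ hone, if_pos rfl, hone1]
    simp
  have hVσ : ∀ φ ∈ T, classInner V (σ φ) = 0 := fun φ hφ => by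
    rw [hV, CT.classInner_add_left, CT.classInner_smul_left, CT.classInner_sum_left,
      Finset.sum_eq_zero (fun μ hμ => (horth _ 1 (hLinsig μ hμ) (hRΦ μ (Finset.mem_of_mem_erase hμ))).1 φ hφ),
      (horth St 1 hStsig hStΦ).1 φ hφ]
    simp
  have hcard' : (Lin'.card : ℂ) = (e : ℂ) - 1 := by
    rw [hLin', Finset.card_erase_of_mem hone, hLin, card_linear N hC hab, Nat.cast_sub (by omega), ← he,
      Nat.cast_one]
  have hVV : classInner V V = ((e : ℂ) + 1) / 2 := by
    have hsymm : ∀ μ ∈ Lin', classInner (R μ) V = 1 := fun μ hμ => by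
      rw [← CT.classInner_conj_symm, hVR μ hμ, map_one]
    conv_lhs => arg 1; rw [hV]
    rw [CT.classInner_add_left, CT.classInner_smul_left, CT.classInner_sum_left, Finset.sum_congr rfl hsymm,
      ← CT.classInner_conj_symm V St, hVSt, map_one, Finset.sum_const, nsmul_eq_mul, hcard']
    ring
  -- the remainder vanishes
  have hY : Wp = V := by
    refine sub_eq_zero.mp (CT.classFunction_eq_zero ?_ fun χ hχ => ?_)
    · have h1 := CT.isClassFunction_of_isGen hWgen
      have h2 : ∀ φ ∈ T, IsClassFunction G (σ φ) := fun φ hφ => CT.isClassFunction_of_isGen (hσgen φ hφ)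
      have h3 : ∀ μ : IrrCharacter L, IsClassFunction G (R μ) := fun μ => CT.isClassFunction_indFun L _
      have h4 : IsClassFunction G one := fun _ _ => rfl
      intro g x
      simp only [hWp, hV, hSt, Pi.sub_apply, Pi.add_apply, Pi.smul_apply, Finset.sum_apply, h1 g x, h3 _ g x,
        h4 g x]
      rw [Finset.sum_congr rfl fun φ hφ => by rw [h2 φ hφ g x]]
    set Y := Wp - V with hYdef
    have hYσ : ∀ φ ∈ T, classInner Y (σ φ) = 0 := fun φ hφ => by
      rw [hYdef, CT.classInner_sub_left, hWpσ φ hφ, hVσ φ hφ, sub_zero]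
    have hYone : classInner Y one = 0 := by
      rw [hYdef, CT.classInner_sub_left, hV1, ← CT.classInner_conj_symm,
        hWpR one 0 (Or.inl honeirr) honeΦ, map_zero, sub_zero]
    have hYSt : classInner Y St = 0 := by
      rw [hYdef, CT.classInner_sub_left, hVSt, ← CT.classInner_conj_symm, hWpR St 1 hStsig hStΦ, map_one,
        sub_self]
    have hYR : ∀ μ ∈ Lin', classInner Y (R μ) = 0 := fun μ hμ => by
      rw [hYdef, CT.classInner_sub_left, hVR μ hμ, ← CT.classInner_conj_symm,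
        hWpR _ 1 (hLinsig μ hμ) (hRΦ μ (Finset.mem_of_mem_erase hμ)), map_one, sub_self]
    by_contra hne
    have hzero : ∀ Z : G → ℂ, IsSigned Z → classInner Y Z = 0 → classInner χ Z = 0 := by
      intro Z hZ hYZ
      rcases OddChar.isSigned_inner (Or.inl hχ) hZ with h' | ⟨d, -, -, hd⟩
      · exact h'
      · exact absurd (by rw [hd, CT.classInner_smul_right, hYZ, mul_zero]) hne
    have hχR : ∀ μ ∈ Lin, classInner χ (R μ) = 0 := by
      intro μ hμ
      by_cases h1 : μ = CT.trivIrr L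
      · subst h1
        rw [show R (CT.trivIrr L) = St + one by rw [hSt]; abel, CT.classInner_add_right,
          hzero St hStsig hYSt, hzero one (Or.inl honeirr) hYone, add_zero]
      · exact hzero _ (hLinsig μ (Finset.mem_erase.mpr ⟨h1, hμ⟩)) (hYR μ (Finset.mem_erase.mpr ⟨h1, hμ⟩))
    obtain ⟨w, hw⟩ := CT.isGen_inner_int (CT.isGen_of_isIrr hχ) hWgen
    have hχcf := CT.isClassFunction_of_isIrr hχ
    have hexp := congrFun (CT.classFunction_eq_sum (f := fun x : L => χ x) fun x y => by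
      show χ ↑(y * x * y⁻¹) = χ ↑x
      push_cast
      exact hχcf _ _) 1
    simp only [Finset.sum_apply, Pi.smul_apply, smul_eq_mul, OneMemClass.coe_one] at hexp
    simp only [← CT.frobenius_reciprocity' L hχcf] at hexp
    rw [← Finset.sum_filter_add_sum_filter_not _ (fun μ : IrrCharacter L => NT N (μ : L → ℂ)), ← hLin,
      Finset.sum_eq_zero (s := Lin) (fun μ hμ => by
        rw [show classInner χ (indFun L (μ : L → ℂ)) = 0 from hχR μ hμ, zero_mul]), add_zero] at hexp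
    have hexp2 : χ 1 = ∑ φ ∈ T, classInner χ (Φ φ) * φ 1 := by
      rw [hexp]
      refine Finset.sum_bij (fun μ _ => (μ : L → ℂ))
        (fun μ hμ => (mem_bot_iff N hC).mpr ⟨μ.2, (Finset.mem_filter.mp hμ).2⟩)
        (fun x _ y _ e => Subtype.ext e) (fun φ hφ => ?_) (fun _ _ => rfl)
      obtain ⟨h1, h2⟩ := (mem_bot_iff N hC).mp hφ
      exact ⟨⟨φ, h1⟩, Finset.mem_filter.mpr ⟨Finset.mem_univ _, h2⟩, rfl⟩
    rw [Finset.sum_congr rfl (g := fun φ => ((w : ℂ) * e) * ((a φ ^ 2 : ℕ) : ℂ)) fun φ hφ => by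
      rw [show Φ φ = σ φ + (a φ : ℂ) • W by rw [hrel φ hφ]; abel, CT.classInner_add_right,
        CT.classInner_smul_right, hzero _ (hσsig φ hφ) (hYσ φ hφ), hw, hdeg φ hφ, Complex.conj_natCast]
      push_cast; ring, ← Finset.mul_sum, ← Nat.cast_sum, ← hA,
      CT.deg_eq (CT.isCharacter_of_isIrr hχ)] at hexp2
    have hdvd : (CT.deg χ : ℤ) ∣ ((h + 1) * h * e : ℕ) :=
      Int.natCast_dvd_natCast.mpr (hG ▸ CohExt.deg_dvd_card hχ)
    have hd : (CT.deg χ : ℤ) = w * e * A := by exact_mod_cast hexp2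
    rw [hd, show w * (e : ℤ) * A = w * ((e : ℤ) * A) by ring] at hdvd
    have h2e : ((e : ℤ) * A) ∣ 2 * e := by
      have h3 := (Dvd.intro_left _ rfl : (e : ℤ) * A ∣ w * ((e : ℤ) * A)).trans hdvd
      have h4 : (h : ℤ) = e * A + 1 := by exact_mod_cast hAh.symm
      push_cast at h3
      rw [h4] at h3
      have h5 : (2 : ℤ) * e = (e * A + 1 + 1) * (e * A + 1) * e - (e * A) * (e * (e * A + 3)) := by ring
      rw [h5]
      exact dvd_sub h3 (dvd_mul_right _ _)
    have := Int.le_of_dvd (by positivity) h2e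
    nlinarith
  have hnorm2 : (e : ℂ) - 1 = 2 * γ * (γ * A + 2) := by
    have := hWpnorm
    rw [hY, hVV] at this
    linear_combination 2 * this.symm
  -- the degree of the exceptional character
  have hσdeg : ∀ φ ∈ T, σ φ 1 = (a φ : ℂ) * σ ψ0 1 := by
    intro φ hφ
    rw [hrel φ hφ, hW]
    simp only [Pi.sub_apply, Pi.smul_apply, smul_eq_mul, Φ, CT.indFun_one_eval, hdeg φ hφ, hdeg ψ0 hψ0, ha0]
    push_cast; ring
  have hV1eval : V 1 = ((e : ℂ) - 1) * ((h : ℂ) + 1) / 2 + h := by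
    simp only [hV, hSt, Pi.add_apply, Pi.sub_apply, Pi.smul_apply, Finset.sum_apply, smul_eq_mul, R,
      CT.indFun_one_eval, hidx, one, CT.trivIrr_apply, mul_one, Nat.cast_add, Nat.cast_one]
    rw [Finset.sum_congr rfl fun μ hμ => by rw [(hLinmem μ (Finset.mem_of_mem_erase hμ)).1, mul_one],
      Finset.sum_const, nsmul_eq_mul, hcard']
    ring
  have hWeval : W 1 = V 1 + γ * A * σ ψ0 1 := by
    have h1 : W = Wp + (γ : ℂ) • ∑ φ ∈ T, (a φ : ℂ) • σ φ := by rw [hWp]; abel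
    rw [h1, hY]
    simp only [Pi.add_apply, Pi.smul_apply, Finset.sum_apply, smul_eq_mul]
    rw [Finset.sum_congr rfl (g := fun φ => ((a φ ^ 2 : ℕ) : ℂ) * σ ψ0 1) fun φ hφ => by
      rw [hσdeg φ hφ]; push_cast; ring, ← Finset.sum_mul, ← Nat.cast_sum, ← hA]
    ring
  have hAhC : (h : ℂ) = e * A + 1 := by exact_mod_cast hAh.symm
  have hkey : σ ψ0 1 * ((γ : ℂ) * A + 1) = (e : ℂ) * ((γ : ℂ) * A + 1) * ((γ : ℂ) * A + 1) := by
    have h1 := hWeval
    rw [hV1eval, hW] at h1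
    simp only [Pi.sub_apply, Φ, CT.indFun_one_eval, hidx, hdeg ψ0 hψ0, ha0, Nat.cast_add, Nat.cast_one,
      mul_one] at h1
    rw [hAhC] at h1
    linear_combination -h1 + (((e : ℂ) * A) / 2 + 1) * hnorm2 * 0 + ((e : ℂ) * A / 2) * hnorm2
  have hk0 : (γ : ℤ) * A + 1 ≠ 0 := by
    intro h0
    have h1 : (A : ℤ) ∣ 1 := Dvd.intro (-γ) (by linear_combination -h0)
    have := Int.le_of_dvd one_pos h1
    omega
  have hk0' : (γ : ℂ) * A + 1 ≠ 0 := by exact_mod_cast hk0
  have hσ1 : σ ψ0 1 = (e : ℂ) * ((γ : ℂ) * A + 1) := mul_right_cancel₀ hk0' hkey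
  obtain ⟨χ, d, hχ, hd, hσχ⟩ := OddChar.isSigned_exists (hσsig ψ0 hψ0)
  have hdiv : (e : ℤ) * (γ * A + 1) ∣ (((h + 1) * h * e : ℕ) : ℤ) := by
    have h1 : (CT.deg χ : ℤ) ∣ (((h + 1) * h * e : ℕ) : ℤ) :=
      Int.natCast_dvd_natCast.mpr (hG ▸ CohExt.deg_dvd_card hχ)
    have h2 : d * (CT.deg χ : ℂ) = (((e : ℤ) * (γ * A + 1) : ℤ) : ℂ) := by
      rw [← CT.deg_eq (CT.isCharacter_of_isIrr hχ), ← smul_eq_mul, ← Pi.smul_apply, ← hσχ, hσ1]
      push_cast; ring
    rcases hd with rfl | rfl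
    · rw [one_mul, ← Int.cast_natCast, Int.cast_inj] at h2
      rwa [← h2]
    · rw [neg_one_mul, ← Int.cast_natCast, ← Int.cast_neg, Int.cast_inj] at h2
      rw [← h2]
      exact (neg_dvd).mpr h1
  have hnormZ : (e : ℤ) - 1 = 2 * γ * (γ * A + 2) := by exact_mod_cast hnorm2
  have hAhZ : (h : ℤ) = (e : ℤ) * A + 1 := by exact_mod_cast hAh.symm
  have hγ1 : γ = -1 := by
    refine gamma_eq (e := (e : ℤ)) (h := (h : ℤ)) (A := (A : ℤ)) (by omega) (by omega) hAhZ hnormZ ?_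
    push_cast at hdiv
    rw [mul_comm (((h : ℤ) + 1) * h) (e : ℤ)] at hdiv
    exact (mul_dvd_mul_iff_left (by omega)).mp hdiv
  rw [hγ1] at hnormZ
  refine ⟨A, hA3, ?_, hAh.symm⟩
  linarith [hnormZ]

end Cfsg.Agent.ZassOdd.Coh
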