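import Cfsg.Agent.Lib.ZassOddCount.Basic

/-!
# Counting pairs of involutions in Zassenhaus groups
-/

set_option autoImplicit false
set_option linter.unusedSectionVars false

namespace Cfsg.Agent.ZassOdd

open MulAction
open Cfsg.Agent.PermGp.ZEven

theorem card_filter_eq_natCard {α : Type*} [Fintype α] (P : α → Prop) [DecidablePred P] :
    (Finset.univ.filter P).card = Nat.card {x : α // P x} := by
  rw [Nat.card_eq_fintype_card, Fintype.card_subtype]

variable {G Ω : Type*} [Group G] [MulAction G Ω] [Finite G] [Fintype Ω] {e : ℕ} (S : OddSetup G Ω e)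

include S

theorem card_group {a b : Ω} (hab : a ≠ b) :
    Nat.card G = Fintype.card Ω * (Fintype.card Ω - 1) * e := by
  classical
  haveI := S.grp.two
  haveI : IsPretransitive G Ω := by
    refine ⟨fun x y => ?_⟩
    obtain ⟨x', hx', -⟩ := S.grp.exists_third x x
    obtain ⟨y', hy', -⟩ := S.grp.exists_third y y
    obtain ⟨g, hg, -⟩ := PermGp.two_trans_exists S.grp.two hx'.symm hy'.symm
    exact ⟨g, hg⟩
  have h1 := (stabilizer G a).card_mul_index
  rw [index_stabilizer_of_transitive, Nat.card_eq_fintype_card (α := Ω)] at h1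
  have h2 := (stabilizer (stabilizer G a) b).card_mul_index
  rw [index_stabilizer] at h2
  have h3 : orbit (stabilizer G a) b = {c | c ≠ a} := by
    ext c
    refine ⟨?_, fun hc => ?_⟩
    · rintro ⟨g, rfl⟩ h
      exact hab (smul_left_cancel (g : G) ((g.2 : (g : G) • a = a).trans h.symm))
    · obtain ⟨g, hga, hgb⟩ := PermGp.two_trans_exists S.grp.two hab (Ne.symm hc)
      exact ⟨⟨g, hga⟩, hgb⟩
  have h4 : ({c | c ≠ a} : Set Ω).ncard = Fintype.card Ω - 1 := by
    simp [Set.ncard_eq_toFinset_card', Finset.filter_ne', Finset.card_erase_of_mem]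
  have h5 : Nat.card (stabilizer (stabilizer G a) b) = e := by
    rw [← S.stab_card a b hab]
    exact Nat.card_congr
      { toFun := fun g => ⟨((g : stabilizer G a) : G), Subgroup.mem_inf.mpr ⟨(g : stabilizer G a).2, g.2⟩⟩
        invFun := fun g => ⟨⟨g, (Subgroup.mem_inf.mp g.2).1⟩, (Subgroup.mem_inf.mp g.2).2⟩
        left_inv := fun g => rfl
        right_inv := fun g => rfl }
  rw [h3, h4, h5] at h2
  rw [← h1, ← h2]
  ring

open Classical in
theorem card_fix_involutions [Fintype G] [Nontrivial Ω] (hodd : Odd (Fintype.card Ω)) (c : Ω) :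
    (Finset.univ.filter fun y : G => orderOf y = 2 ∧ y • c = c).card = e := by
  set I := Finset.univ.filter (fun x : G => orderOf x = 2) with hI
  have hIcard : I.card = Fintype.card Ω * e := by
    have h := card_involutions S
    rw [if_neg (Nat.not_even_iff_odd.mpr hodd), Nat.card_eq_fintype_card,
      Fintype.card_of_subtype I (fun x => by simp [hI])] at h
    have h2 : 1 < Fintype.card Ω := Fintype.one_lt_card
    refine Nat.eq_of_mul_eq_mul_right (show 0 < Fintype.card Ω - 1 by omega) (h.trans ?_)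
    ring
  have h2 : (I.filter fun x => x • c ≠ c).card = (Fintype.card Ω - 1) * e := by
    rw [Finset.card_eq_sum_card_fiberwise (f := fun x : G => x • c) (t := Finset.univ.erase c)
      (fun x hx => Finset.mem_erase.mpr ⟨(Finset.mem_filter.mp hx).2, Finset.mem_univ _⟩)]
    have h3 : ∀ d ∈ Finset.univ.erase c, ((I.filter fun x => x • c ≠ c).filter fun x => x • c = d).card = e := by
      intro d hd
      have hdc := (Finset.mem_erase.mp hd).1
      rw [← card_swap S hdc.symm, Nat.card_eq_fintype_card]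
      refine (Fintype.card_of_subtype _ fun x => ?_).symm
      rw [← involution_iff_swap S hdc.symm x]
      simp only [hI, Finset.mem_filter, Finset.mem_univ, true_and]
      exact ⟨fun h => ⟨h.1.1, h.2⟩, fun h => ⟨⟨h.1, h.2 ▸ hdc⟩, h.2⟩⟩
    rw [Finset.sum_congr rfl h3, Finset.sum_const, Finset.card_erase_of_mem (Finset.mem_univ c),
      Finset.card_univ, smul_eq_mul]
  have hsplit := Finset.card_filter_add_card_filter_not (s := I) (fun x => x • c = c)
  rw [h2, hIcard] at hsplit
  rw [show (Finset.univ.filter fun y : G => orderOf y = 2 ∧ y • c = c) = I.filter (fun x => x • c = c) by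
    rw [hI, Finset.filter_filter]]
  obtain ⟨m, hm⟩ : ∃ m, Fintype.card Ω = m + 1 := ⟨_, (Nat.succ_pred_eq_of_pos Fintype.card_pos).symm⟩
  rw [hm, Nat.add_sub_cancel, Nat.succ_mul] at hsplit
  omega

open Classical in
theorem pairs_lower [Fintype G] {a b : Ω} (hab : a ≠ b) :
    (Fintype.card Ω - 1) * e * ((Fintype.card Ω - 2) * (e + 1)) ≤
      2 * (((Finset.univ.filter fun x : G => orderOf x = 2) ×ˢ
        (Finset.univ.filter fun x : G => orderOf x = 2)).filter
          fun p => ∀ c : Ω, (p.1 * p.2) • c ≠ c).card := by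
  haveI : Nontrivial Ω := ⟨a, b, hab⟩
  set n := Fintype.card Ω with hn
  set I := Finset.univ.filter (fun x : G => orderOf x = 2) with hI
  have hI2 : ∀ {x}, x ∈ I → x * x = 1 := fun hx => by
    rw [← pow_two, ← (Finset.mem_filter.mp hx).2, pow_orderOf_eq_one]
  set U := (I ×ˢ I).filter (fun p => p.1 * p.2 = 1) with hU
  set T := (I ×ˢ I).filter (fun p => p.1 * p.2 ≠ 1 ∧
    ∃ c d : Ω, c ≠ d ∧ (p.1 * p.2) • c = c ∧ (p.1 * p.2) • d = d) with hT
  set O := (I ×ˢ I).filter (fun p => p.1 * p.2 ≠ 1 ∧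
    ∃ c : Ω, (p.1 * p.2) • c = c ∧ ∀ d : Ω, (p.1 * p.2) • d = d → d = c) with hO
  set P := (I ×ˢ I).filter fun p => ∀ c : Ω, (p.1 * p.2) • c ≠ c with hP
  have hcover : I ×ˢ I ⊆ U ∪ T ∪ O ∪ P := by
    intro p hp
    simp only [Finset.mem_union, hU, hT, hO, hP, Finset.mem_filter, hp, true_and]
    by_cases h1 : p.1 * p.2 = 1
    · exact Or.inl (Or.inl (Or.inl h1))
    by_cases h2 : ∀ c : Ω, (p.1 * p.2) • c ≠ c
    · exact Or.inr h2
    push Not at h2
    obtain ⟨c, hc⟩ := h2
    by_cases h3 : ∀ d : Ω, (p.1 * p.2) • d = d → d = c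
    · exact Or.inl (Or.inr ⟨h1, c, hc, h3⟩)
    push Not at h3
    obtain ⟨d, hd, hdc⟩ := h3
    exact Or.inl (Or.inl (Or.inr ⟨h1, c, d, hdc.symm, hc, hd⟩))
  have hI1 : I.card * I.card ≤ U.card + T.card + O.card + P.card := by
    rw [← Finset.card_product]
    refine (Finset.card_le_card hcover).trans ?_
    have h1 := Finset.card_union_le (U ∪ T ∪ O) P
    have h2 := Finset.card_union_le (U ∪ T) O
    have h3 := Finset.card_union_le U T
    omega
  have hinv : ∀ p ∈ I ×ˢ I, ∀ c : Ω, (p.1 * p.2) • c = c →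
      (p.1 * p.2) • (p.1 • c) = p.1 • c := by
    intro p hp c hc
    obtain ⟨h1, h2⟩ := Finset.mem_product.mp hp
    have e1 : (p.1 * p.2)⁻¹ • c = c := inv_smul_eq_iff.mpr hc.symm
    have e2 : p.1 * p.2 * p.1 = p.1 * (p.1 * p.2)⁻¹ := by
      rw [mul_inv_rev, inv_eq_of_mul_eq_one_right (hI2 h1), inv_eq_of_mul_eq_one_right (hI2 h2), mul_assoc]
    rw [← mul_smul, e2, mul_smul, e1]
  -- trivial products
  have hUcard : U.card ≤ I.card := by
    refine Finset.card_le_card_of_injOn Prod.fst (fun p hp => (Finset.mem_product.mp (Finset.mem_filter.mp hp).1).1) ?_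
    intro p hp q hq hpq
    have h1 := (Finset.mem_filter.mp hp).2
    have h2 := (Finset.mem_filter.mp hq).2
    rw [show q.1 = p.1 from hpq.symm] at h2
    exact Prod.ext hpq (mul_left_cancel (h1.trans h2.symm))
  -- two fixed points
  have hTcard : 2 * T.card ≤ n * (n - 1) * (e * (e - 1)) := by
    let R : G × G → Ω × Ω → Prop := fun p q => (p.1 * p.2) • q.1 = q.1 ∧ (p.1 * p.2) • q.2 = q.2
    have h1 : ∀ p ∈ T, 2 ≤ ((Finset.univ : Finset Ω).offDiag.filter (R p)).card := by
      intro p hp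
      obtain ⟨-, -, c, d, hcd, hc, hd⟩ := Finset.mem_filter.mp hp
      have : ({(c, d), (d, c)} : Finset (Ω × Ω)) ⊆ (Finset.univ : Finset Ω).offDiag.filter (R p) := by
        intro q hq
        simp only [Finset.mem_insert, Finset.mem_singleton] at hq
        rcases hq with rfl | rfl <;> simp [R, hc, hd, hcd, hcd.symm]
      refine le_trans ?_ (Finset.card_le_card this)
      rw [Finset.card_pair]
      exact fun h => hcd (congrArg Prod.fst h)
    have h2 : ∀ q ∈ (Finset.univ : Finset Ω).offDiag, (T.filter fun p => R p q).card ≤ e * (e - 1) := by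
      intro q hq
      have hne : q.1 ≠ q.2 := (Finset.mem_offDiag.mp hq).2.2
      let W := (Finset.univ.filter fun x : G => x • q.1 = q.2 ∧ x • q.2 = q.1) ×ˢ
        ((Finset.univ.filter fun g : G => g ∈ stabilizer G q.1 ⊓ stabilizer G q.2).erase 1)
      have hW : W.card = e * (e - 1) := by
        rw [Finset.card_product, Finset.card_erase_of_mem (by simp [Subgroup.one_mem]),
          card_filter_eq_natCard, card_filter_eq_natCard, card_swap S hne]
        congr 1
        rw [← S.stab_card q.1 q.2 hne]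
      rw [← hW]
      refine Finset.card_le_card_of_injOn (fun p => (p.1, p.1 * p.2)) (fun p hp => ?_) ?_
      · obtain ⟨hpT, hc, hd⟩ := Finset.mem_filter.mp hp
        obtain ⟨hpp, hp1, -⟩ := Finset.mem_filter.mp hpT
        have hx := (Finset.mem_product.mp hpp).1
        have hx1 : p.1 ≠ 1 := fun h => by
          have := (Finset.mem_filter.mp hx).2; rw [h, orderOf_one] at this; omega
        have hfix : ∀ w, (p.1 * p.2) • w = w → w = q.1 ∨ w = q.2 := by
          intro w hw
          by_contra hcon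
          push Not at hcon
          exact hp1 (S.grp.three _ q.1 q.2 w hne hcon.2.symm hcon.1.symm hc hd hw)
        have hswap : p.1 • q.1 = q.2 ∧ p.1 • q.2 = q.1 := by
          rcases hfix _ (hinv p hpp _ hc) with h | h
          · exfalso
            rcases hfix _ (hinv p hpp _ hd) with h' | h'
            · exact hne (smul_left_cancel p.1 (h.trans h'.symm))
            · exact hx1 (ne_one_of_sq_fix S hne h h' (hI2 hx))
          · refine ⟨h, ?_⟩
            rw [← h, ← mul_smul, hI2 hx, one_smul]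
        simp only [W, Finset.mem_coe, Finset.mem_product, Finset.mem_filter, Finset.mem_univ, true_and,
          Finset.mem_erase, Subgroup.mem_inf, mem_stabilizer_iff]
        exact ⟨hswap, hp1, hc, hd⟩
      · intro p _ p' _ hpq
        obtain ⟨h1, h2⟩ := Prod.mk.inj hpq
        rw [h1] at h2
        exact Prod.ext h1 (mul_left_cancel h2)
    calc 2 * T.card = ∑ _p ∈ T, 2 := by rw [Finset.sum_const, smul_eq_mul, mul_comm]
      _ ≤ ∑ p ∈ T, ((Finset.univ : Finset Ω).offDiag.filter (R p)).card := Finset.sum_le_sum h1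
      _ = ∑ q ∈ (Finset.univ : Finset Ω).offDiag, (T.filter fun p => R p q).card :=
          Finset.sum_card_bipartiteAbove_eq_sum_card_bipartiteBelow R
      _ ≤ ∑ _q ∈ (Finset.univ : Finset Ω).offDiag, e * (e - 1) := Finset.sum_le_sum h2
      _ = n * (n - 1) * (e * (e - 1)) := by
          rw [Finset.sum_const, Finset.offDiag_card, Finset.card_univ, smul_eq_mul, hn, Nat.mul_sub_one]
          simp only [Nat.mul_sub_one]
  -- one fixed point
  have hfirst : ∀ p ∈ O, ∀ c : Ω, (p.1 * p.2) • c = c → p.1 • c = c ∧ p.2 • c = c := by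
    intro p hp c hc
    obtain ⟨hpp, -, c₀, hc₀, huniq⟩ := Finset.mem_filter.mp hp
    have hx : p.1 • c = c := (huniq _ (hinv p hpp c hc)).trans (huniq c hc).symm
    refine ⟨hx, ?_⟩
    rw [mul_smul] at hc
    exact smul_left_cancel p.1 (hc.trans hx.symm)
  have hIcard : I.card * (n - if Even n then 0 else 1) = n * (n - 1) * e := by
    have h := card_involutions S
    rwa [Nat.card_eq_fintype_card, Fintype.card_of_subtype I (fun x => by simp [hI])] at h
  have hn3 : 3 ≤ n := by
    obtain ⟨c, hca, hcb⟩ := S.grp.exists_third a b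
    exact Fintype.two_lt_card_iff.mpr ⟨c, a, b, hca, hcb, hab⟩
  have hOcard : Odd n → O.card ≤ I.card * (e - 1) := by
    intro hodd
    rw [Finset.card_eq_sum_card_fiberwise (f := Prod.fst) (t := I)
      (fun p hp => (Finset.mem_product.mp (Finset.mem_filter.mp hp).1).1)]
    refine (Finset.sum_le_card_nsmul _ _ (e - 1) fun x hx => ?_).trans_eq (smul_eq_mul _ _)
    rcases (O.filter fun p => p.1 = x).eq_empty_or_nonempty with h | ⟨q, hq⟩
    · rw [h, Finset.card_empty]
      exact Nat.zero_le _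
    obtain ⟨hqO, hq1⟩ := Finset.mem_filter.mp hq
    obtain ⟨-, -, c, hc, -⟩ := Finset.mem_filter.mp hqO
    obtain ⟨hxc, -⟩ := hfirst q hqO c hc
    rw [hq1] at hxc
    have hcard := card_fix_involutions S hodd c
    rw [← hcard, ← Finset.card_erase_of_mem (a := x) (by simp [(Finset.mem_filter.mp hx).2, hxc])]
    refine Finset.card_le_card_of_injOn Prod.snd (fun p hp => ?_) ?_
    · obtain ⟨hpO, hp1⟩ := Finset.mem_filter.mp hp
      obtain ⟨hpp, hpne, c', hc', -⟩ := Finset.mem_filter.mp hpO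
      obtain ⟨hx', hy'⟩ := hfirst p hpO c' hc'
      rw [hp1] at hx'
      have hcc : c' = c := by
        by_contra hne
        have := ne_one_of_sq_fix S hne hx' hxc (hI2 hx)
        have h2 := (Finset.mem_filter.mp hx).2
        rw [this, orderOf_one] at h2
        omega
      simp only [Finset.mem_coe, Finset.mem_erase, Finset.mem_filter, Finset.mem_univ, true_and]
      refine ⟨fun h => hpne ?_, (Finset.mem_filter.mp (Finset.mem_product.mp hpp).2).2, hcc ▸ hy'⟩
      rw [hp1, h]
      exact hI2 hx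
    · intro p hp p' hp' hpq
      exact Prod.ext ((Finset.mem_filter.mp hp).2.trans (Finset.mem_filter.mp hp').2.symm) hpq
  have hOempty : Even n → O.card = 0 := by
    intro hev
    rw [Finset.card_eq_zero, Finset.eq_empty_iff_forall_notMem]
    intro p hp
    obtain ⟨hpp, -, c, hc, -⟩ := Finset.mem_filter.mp hp
    obtain ⟨hx, -⟩ := hfirst p hp c hc
    have h := fixed_involution S (Finset.mem_filter.mp (Finset.mem_product.mp hpp).1).2
    rw [if_pos hev, Nat.card_eq_zero] at h
    rcases h with h | h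
    · exact h.false (⟨c, hx⟩ : fixedBy Ω p.1)
    · exact absurd h (not_infinite_iff_finite.mpr inferInstance)
  have he1 : 1 ≤ e := (one_lt S hab).le
  obtain ⟨m, rfl⟩ : ∃ m, e = m + 1 := ⟨e - 1, by omega⟩
  obtain ⟨k, hk⟩ : ∃ k, n = k + 2 := ⟨n - 2, by omega⟩
  clear_value U T O P I
  rcases Nat.even_or_odd n with hev | hodd
  · have hO0 := hOempty hev
    rw [if_pos hev, Nat.sub_zero] at hIcard
    have hIc : I.card = (k + 1) * (m + 1) :=
      Nat.eq_of_mul_eq_mul_right (show 0 < n by omega) (by rw [hIcard, hk]; simp; ring)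
    rw [hk] at hTcard ⊢
    simp only [Nat.add_sub_cancel, show k + 2 - 1 = k + 1 from rfl] at hTcard ⊢
    nlinarith [hI1, hTcard, hUcard]
  · have hO1 := hOcard hodd
    rw [if_neg (Nat.not_even_iff_odd.mpr hodd)] at hIcard
    have hIc : I.card = (k + 2) * (m + 1) :=
      Nat.eq_of_mul_eq_mul_right (show 0 < n - 1 by omega) (by rw [hIcard, hk]; simp; ring)
    rw [hk] at hTcard ⊢
    simp only [Nat.add_sub_cancel, show k + 2 - 1 = k + 1 from rfl] at hTcard hO1 ⊢
    rw [hIc] at hI1 hUcard hO1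
    nlinarith [hI1, hTcard, hUcard, hO1, Nat.zero_le ((k + 1) * (m + 1) * (2 * (m + 2)))]

open Classical in
/-- At least half as many classes of elements without fixed points as `e + 1`. -/
theorem fpf_classes [Fintype G] {a b : Ω} (hab : a ≠ b) (hlt : e + 2 < Fintype.card Ω) :
    e + 1 ≤ 2 * ((Finset.univ.filter fun g : G => ∀ c : Ω, g • c ≠ c).image ConjClasses.mk).card := by
  set F := Finset.univ.filter (fun g : G => ∀ c : Ω, g • c ≠ c) with hF
  set I := Finset.univ.filter (fun x : G => orderOf x = 2) with hI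
  set P := (I ×ˢ I).filter fun p => ∀ c : Ω, (p.1 * p.2) • c ≠ c with hP
  have hI2 : ∀ {x}, x ∈ I → x⁻¹ = x := fun hx => inv_eq_of_mul_eq_one_right (by
    rw [← pow_two, ← (Finset.mem_filter.mp hx).2, pow_orderOf_eq_one])
  have hupper : P.card ≤ Nat.card G * (F.image ConjClasses.mk).card := by
    refine Finset.card_le_mul_card_image_of_maps_to (f := fun p => ConjClasses.mk (p.1 * p.2))
      (fun p hp => Finset.mem_image.mpr ⟨p.1 * p.2, by simp [hF, (Finset.mem_filter.mp hp).2], rfl⟩)
      (Nat.card G) fun C _ => ?_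
    rcases (P.filter fun p => ConjClasses.mk (p.1 * p.2) = C).eq_empty_or_nonempty with h | ⟨q, hq⟩
    · simp [h]
    set g₀ := q.1 * q.2 with hg₀
    have hconj : ∀ g : G, ∃ t : G, IsConj g g₀ → t * g * t⁻¹ = g₀ := fun g => by
      by_cases h : IsConj g g₀
      · obtain ⟨t, ht⟩ := isConj_iff.mp h; exact ⟨t, fun _ => ht⟩
      · exact ⟨1, fun h' => absurd h' h⟩
    choose t ht using hconj
    have hinvert : ∀ p ∈ P, p.1 * (p.1 * p.2) * p.1⁻¹ = (p.1 * p.2)⁻¹ := fun p hp => by
      obtain ⟨h1, h2⟩ := Finset.mem_product.mp (Finset.mem_filter.mp hp).1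
      rw [mul_inv_rev, hI2 h2, ← mul_assoc]
      nth_rw 1 [← hI2 h1]
      rw [inv_mul_cancel, one_mul]
    rw [Nat.card_eq_fintype_card, ← Finset.card_univ]
    refine Finset.card_le_card_of_injOn
      (fun p => q.1⁻¹ * (t (p.1 * p.2) * p.1 * (t (p.1 * p.2))⁻¹) * t (p.1 * p.2))
      (fun p _ => Finset.mem_univ _) ?_
    have key : ∀ p ∈ P.filter (fun p => ConjClasses.mk (p.1 * p.2) = C),
        (q.1⁻¹ * (t (p.1 * p.2) * p.1 * (t (p.1 * p.2))⁻¹) * t (p.1 * p.2))⁻¹ * g₀ *
          (q.1⁻¹ * (t (p.1 * p.2) * p.1 * (t (p.1 * p.2))⁻¹) * t (p.1 * p.2)) = p.1 * p.2 := by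
      intro p hp
      obtain ⟨hpP, hpC⟩ := Finset.mem_filter.mp hp
      obtain ⟨hqP, hqC⟩ := Finset.mem_filter.mp hq
      have h1 := ht _ (ConjClasses.mk_eq_mk_iff_isConj.mp (hpC.trans hqC.symm))
      have h2 : q.1 * g₀ * q.1⁻¹ = g₀⁻¹ := hinvert q hqP
      have h3 := hinvert p hpP
      set g := p.1 * p.2
      calc _ = (t g)⁻¹ * (t g) * p.1⁻¹ * (t g)⁻¹ * (q.1 * g₀ * q.1⁻¹) * (t g) * p.1 := by group
        _ = p.1⁻¹ * (t g)⁻¹ * g₀⁻¹ * (t g) * p.1 := by rw [h2]; group
        _ = p.1⁻¹ * (t g)⁻¹ * (t g * g * (t g)⁻¹)⁻¹ * (t g) * p.1 := by rw [h1]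
        _ = p.1⁻¹ * g⁻¹ * p.1 := by group
        _ = g := by rw [← h3]; group
    intro p hp p' hp' hpp
    have h := key p hp
    simp only at hpp
    rw [hpp, key p' hp'] at h
    rw [h] at hpp
    have h1 : p.1 = p'.1 := mul_left_cancel (mul_right_cancel (mul_left_cancel (mul_right_cancel hpp)))
    exact Prod.ext h1 (mul_left_cancel (a := p.1) (by rw [← h]; rw [h1]))
  have hlow := pairs_lower S hab
  rw [← hI, ← hP] at hlow
  rw [card_group S hab] at hupper
  obtain ⟨m, hm⟩ : ∃ m, Fintype.card Ω = m + 2 := ⟨Fintype.card Ω - 2, by omega⟩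
  rw [hm] at hlow hupper hlt
  simp only [Nat.add_sub_cancel, show m + 2 - 1 = m + 1 from rfl] at hlow hupper
  have he : 0 < e := (one_lt S hab).le
  set k := (F.image ConjClasses.mk).card
  have hk : m * (e + 1) ≤ 2 * ((m + 2) * k) := by
    refine Nat.le_of_mul_le_mul_left ?_ (Nat.mul_pos (Nat.succ_pos m) he)
    calc (m + 1) * e * (m * (e + 1)) ≤ 2 * P.card := hlow
      _ ≤ 2 * ((m + 2) * (m + 1) * e * k) := Nat.mul_le_mul_left 2 hupper
      _ = (m + 1) * e * (2 * ((m + 2) * k)) := by ring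
  by_contra hcon
  rw [not_le] at hcon
  obtain ⟨j, rfl⟩ := S.odd
  have : k ≤ j := by omega
  nlinarith [Nat.mul_le_mul_left (m + 2) this]

open Classical in
/-- Classes of elements fixing `a` and `b`. -/
theorem stab_classes [Fintype G] {a b : Ω} (hab : a ≠ b) :
    e ≤ 2 * (((Finset.univ.filter fun g : G => g ∈ stabilizer G a ⊓ stabilizer G b).erase 1).image
      ConjClasses.mk).card + 1 := by
  set E := (Finset.univ.filter fun g : G => g ∈ stabilizer G a ⊓ stabilizer G b).erase 1 with hE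
  have hcard : E.card = e - 1 := by
    rw [hE, Finset.card_erase_of_mem (by simp [Subgroup.one_mem]), card_filter_eq_natCard,
      ← S.stab_card a b hab]
  have h := Finset.card_le_mul_card_image (f := ConjClasses.mk) E 2 fun C _ => ?_
  · omega
  rcases (E.filter fun g => ConjClasses.mk g = C).eq_empty_or_nonempty with h | ⟨x, hx⟩
  · simp [h]
  refine (Finset.card_le_card (t := {x, x⁻¹}) fun y hy => ?_).trans Finset.card_le_two
  simp only [hE, Finset.mem_filter, Finset.mem_erase, Finset.mem_univ, true_and] at hx hy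
  obtain ⟨⟨hx1, hxE⟩, hxC⟩ := hx
  obtain ⟨⟨hy1, hyE⟩, hyC⟩ := hy
  obtain ⟨g, hg⟩ := isConj_iff.mp (ConjClasses.mk_eq_mk_iff_isConj.mp (hxC.trans hyC.symm))
  obtain ⟨hxa, hxb⟩ := Subgroup.mem_inf.mp hxE
  rw [mem_stabilizer_iff] at hxa hxb
  have hfix : ∀ w, y • w = w → w = a ∨ w = b := by
    intro w hw
    by_contra hcon
    push Not at hcon
    exact hy1 (S.grp.three y a b w hab hcon.2.symm hcon.1.symm
      (mem_stabilizer_iff.mp (Subgroup.mem_inf.mp hyE).1) (mem_stabilizer_iff.mp (Subgroup.mem_inf.mp hyE).2) hw)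
  have ha := hfix (g • a) (by rw [← hg, mul_smul, mul_smul, inv_smul_smul, hxa])
  have hb := hfix (g • b) (by rw [← hg, mul_smul, mul_smul, inv_smul_smul, hxb])
  have hne : g • a ≠ g • b := fun h => hab (smul_left_cancel g h)
  rw [Finset.mem_insert, Finset.mem_singleton]
  rcases ha with ha | ha <;> rcases hb with hb | hb
  · exact absurd (ha.trans hb.symm) hne
  · left
    obtain ⟨v, hv, hva, hvb, hinv⟩ := S.inverting a b hab
    have hvg := swap_inv S hab (x := v * g) (by rw [mul_smul, ha, hva]) (by rw [mul_smul, hb, hvb]) hxE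
    have h1 : v * y * v⁻¹ = x⁻¹ := by
      rw [← hg, ← hvg.2.2]; group
    rw [hinv y hyE, inv_inj] at h1
    exact h1
  · right
    rw [← hg]
    exact (swap_inv S hab ha hb hxE).2.2
  · exact absurd (ha.trans hb.symm) hne

end Cfsg.Agent.ZassOdd
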