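import Cfsg.Agent.Lib.ZassOddCount.Main

/-!
# Feit's theorem on Zassenhaus groups of odd two-point stabiliser order
-/

set_option autoImplicit false
set_option linter.all false

namespace Cfsg.Agent.ZassOdd.FeitBound

open MulAction
open scoped commutatorElement
open Cfsg.Agent.PermGp.ZEven Cfsg.Agent.CohExt Cfsg.Agent.ZassOdd.Main

universe u v

variable {G : Type u} {Ω : Type v} [Group G] [MulAction G Ω] [Finite G] [Fintype Ω] {a b : Ω} {F : Subgroup G}

/-- The conclusion. -/
def Concl (F : Subgroup G) (d : ℕ) : Prop :=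
  IsPGroup 2 F ∧ (∃ u v : F, u * v ≠ v * u) ∧ (commutator F).index ≤ 4 * d ^ 2 + 1

theorem index_commutator_congr {A : Type u} {B : Type u} [Group A] [Group B] (e : A ≃* B) :
    (commutator B).index = (commutator A).index := by
  rw [← MonoidHom.range_eq_top.mpr e.surjective |> fun h => show (commutator A).map e.toMonoidHom = commutator B by
    rw [commutator_def, commutator_def, Subgroup.map_commutator, ← MonoidHom.range_eq_map, h]]
  exact Subgroup.index_map_equiv _ e

theorem core (D : Data G Ω a b F)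
    (hbig : 2 * Nat.card ↥(stabilizer G a ⊓ stabilizer G b) + 1 < Nat.card F) :
    Concl F (Nat.card ↥(stabilizer G a ⊓ stabilizer G b)) := by
  classical
  haveI := Fintype.ofFinite G
  set L := Subgroup.normalizer (F : Set G) with hLdef
  haveI : Fintype L := Fintype.ofFinite L
  have hL : ∀ g : G, g ∈ L ↔ g • a = a := normalizer_mem D
  haveI := normal_sub D L hL
  have hd2 : 2 ≤ Nat.card ↥(stabilizer G a ⊓ stabilizer G b) := D.grp.stab_pos D.ne
  have hFne : F ≠ ⊥ := fun e => by rw [e, Subgroup.card_bot] at hbig; omega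
  have hidx := index_eq D L hL
  have hlt : F < L := by
    refine lt_of_le_of_ne Subgroup.le_normalizer fun e => ?_
    rw [show F.subgroupOf L = ⊤ from Subgroup.subgroupOf_eq_top.mpr e.ge, Subgroup.index_top] at hidx
    omega
  have hnc := not_coherent D L hL hbig
  have hcard : Nat.card (F.subgroupOf L) = Nat.card F := SibleyMain.card_eq F
  obtain ⟨p, hp, ⟨m, hm⟩, hna, hidxc⟩ :=
    (Feit.coherent_or (F.subgroupOf L) (hC_L D L hL) _ (SibleyMain.tau_iso F (hC_L D L hL) (ti D))
      (SibleyMain.tau_one F) (SibleyMain.ne_bot F hFne) (SibleyMain.ne_top F hlt) (by omega)).resolve_left hnc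
  rw [hcard] at hm
  have hna' : ¬ IsMulCommutative F := fun h => hna ((SibleyMain.comm_iff F L Subgroup.le_normalizer).mpr h)
  have hp2 : p = 2 := by
    by_contra hne
    haveI := Fact.mk hp
    obtain ⟨P, hP⟩ := SibleyMain.is_sylow F (hC_L D L hL) hFne hlt hm
    subst hP
    exact hnc (SibleyMain.sylow_coherent P hne hna' (ti D) hlt (hC_L D L hL))
  subst hp2
  refine ⟨IsPGroup.of_card hm, ?_, ?_⟩
  · by_contra! h
    exact hna' ⟨⟨h⟩⟩
  · haveI : Fintype (F.subgroupOf L) := Fintype.ofFinite _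
    rw [index_commutator_congr (Subgroup.subgroupOfEquivOfLe (Subgroup.le_normalizer (H := F))),
      ← hidx]
    have e := Feit.relIndex_commutator (F.subgroupOf L) (hC_L D L hL)
    rw [← e]
    exact hidxc

theorem main (n : ℕ) : ∀ {G : Type u} {Ω : Type v} [Group G] [Finite G] [MulAction G Ω] [Fintype Ω],
    Nat.card G = n → Cfsg.IsZassenhausGroup G Ω → ∀ {a b : Ω} {F : Subgroup G}, a ≠ b → ZKer a F →
    Odd (Nat.card ↥(stabilizer G a ⊓ stabilizer G b)) →
    2 * Nat.card ↥(stabilizer G a ⊓ stabilizer G b) + 1 < Nat.card F →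
    Concl F (Nat.card ↥(stabilizer G a ⊓ stabilizer G b)) := by
  induction n using Nat.strong_induction_on with
  | _ n IH => ?_
  intro G Ω _ _ _ _ hG hZ a b F hab hK hodd hbig
  classical
  set H := stabilizer G a ⊓ stabilizer G b with hH
  set d := Nat.card H with hd
  have Z := zgrp_of_zassenhaus hZ
  by_cases hnil : ∀ q : ℕ, q.Prime → q ∣ d →
      ¬ ∃ N : Subgroup G, N.Normal ∧ N.index = q ^ (Nat.card G).factorization q
  · obtain ⟨-, -, hinv⟩ := S0739.result hZ hab hodd hnil
    exact core ⟨hK, Z, hZ, hab, hodd, hinv⟩ hbig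
  push Not at hnil
  obtain ⟨q, hq, hqd, N, hN, hidx⟩ := hnil
  haveI := hN
  have hn := hK.card_add_one hab
  have hdn : d ∣ Nat.card F - 1 := by
    have h := ZassSharp.card_dvd Z hab
    rwa [show Fintype.card Ω - 2 = Nat.card F - 1 by omega] at h
  have hqn : ¬ q ∣ Nat.card F := fun h => by
    have h1 : q ∣ 1 := by
      have := Nat.dvd_sub h (hqd.trans hdn)
      rwa [show Nat.card F - (Nat.card F - 1) = 1 by omega] at this
    exact hq.one_lt.ne' (Nat.dvd_one.mp h1)
  have hFN : F ≤ N := fun x hx => by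
    have h1 : orderOf (QuotientGroup.mk x : G ⧸ N) ∣ q ^ (Nat.card G).factorization q := by
      rw [← hidx, Subgroup.index_eq_card]; exact orderOf_dvd_natCard _
    have h2 : orderOf (QuotientGroup.mk x : G ⧸ N) ∣ Nat.card F := by
      refine (orderOf_map_dvd (QuotientGroup.mk' N) x).trans ?_
      rw [show orderOf x = orderOf (⟨x, hx⟩ : F) from (Subgroup.orderOf_coe ⟨x, hx⟩)]
      exact orderOf_dvd_natCard _
    have h3 := Nat.eq_one_of_dvd_coprimes ((Nat.Prime.coprime_iff_not_dvd hq).mpr hqn |>.pow_left _) h1 h2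
    exact (QuotientGroup.eq_one_iff x).mp (orderOf_eq_one_iff.mp h3)
  have hNne : N ≠ ⊥ := fun h => by
    have := Subgroup.card_le_card_group (F.subgroupOf N)
    rw [Nat.card_congr (Subgroup.subgroupOfEquivOfLe hFN).toEquiv] at this
    have h1 : Nat.card N = 1 := by rw [h, Subgroup.card_bot]
    omega
  have hNlt : Nat.card N < n := by
    rw [← hG, ← N.card_mul_index, hidx]
    refine lt_mul_of_one_lt_right Nat.card_pos (Nat.one_lt_pow ?_ hq.one_lt)
    have h1 : q ∣ Nat.card G := hqd.trans (hd ▸ H.card_subgroup_dvd_card)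
    exact (Nat.Prime.factorization_pos_of_dvd hq Nat.card_pos.ne' h1).ne'
  have ZN := ZassNormal.normal_zassenhaus hZ N hNne
  have hKN : ZKer a (F.subgroupOf N) :=
    { fix := fun x hx => hK.fix (x : G) hx
      conj := fun g hg x hx => hK.conj (g : G) hg (x : G) hx
      exists_eq := fun y z hy hz => by
        obtain ⟨x, hx, hxy⟩ := hK.exists_eq y z hy hz
        exact ⟨⟨x, hFN hx⟩, hx, hxy⟩
      semi := fun x hx y hy hxy => Subtype.ext (hK.semi (x : G) hx y hy hxy) }
  have hHN : stabilizer N a ⊓ stabilizer N b = H.subgroupOf N := by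
    ext x; exact Iff.rfl
  have hdN : Nat.card ↥(stabilizer N a ⊓ stabilizer N b) ∣ d := by
    rw [hHN, hd, ← Subgroup.inf_subgroupOf_right H N,
      Nat.card_congr (Subgroup.subgroupOfEquivOfLe (inf_le_right : H ⊓ N ≤ N)).toEquiv]
    exact Subgroup.card_dvd_of_le inf_le_left
  have hFcard : Nat.card (F.subgroupOf N) = Nat.card F := Nat.card_congr (Subgroup.subgroupOfEquivOfLe hFN).toEquiv
  have hle := Nat.le_of_dvd (hd ▸ Nat.card_pos) hdN
  obtain ⟨h2, ⟨u, v, huv⟩, hci⟩ := IH _ hNlt rfl ZN hab hKN (Odd.of_dvd_nat hodd hdN) (by omega)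
  let e := Subgroup.subgroupOfEquivOfLe hFN
  refine ⟨h2.of_equiv e, ⟨e u, e v, fun h => huv (e.injective (by rw [map_mul, map_mul, h]))⟩, ?_⟩
  rw [index_commutator_congr e]
  refine hci.trans ?_
  gcongr

end Cfsg.Agent.ZassOdd.FeitBound
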