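import Cfsg.Agent.Lib.CT.Kernel
import Mathlib.GroupTheory.GroupAction.Basic

/-!
# Characters induced from linear characters of point stabilisers
-/

set_option autoImplicit false

namespace Cfsg.Agent.ZassOdd

open MulAction

universe u v

variable {G : Type u} [Group G] [Fintype G] {Ω : Type v} [MulAction G Ω] [Fintype Ω]

/-- The value of an induced linear character as a sum over fixed points. -/
theorem ind_linear_apply (a : Ω) (l : stabilizer G a →* ℂˣ) (g : G) (t : Ω → G) (s : Finset Ω)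
    (hs : ∀ c, c ∈ s ↔ g • c = c) (ht : ∀ c ∈ s, t c • a = c) :
    indFun (stabilizer G a) (fun x => (l x : ℂ)) g =
      ∑ c ∈ s, extendByZero (stabilizer G a) (fun x => (l x : ℂ)) ((t c)⁻¹ * g * t c) := by
  classical
  have hc : (Nat.card (stabilizer G a) : ℂ) ≠ 0 := Nat.cast_ne_zero.mpr Nat.card_pos.ne'
  unfold indFun
  rw [inv_mul_eq_iff_eq_mul₀ hc, Finset.mul_sum,
    ← Finset.sum_fiberwise Finset.univ (fun x : G => x • a),
    ← Finset.sum_subset (Finset.subset_univ s) (fun c _ hcs => Finset.sum_eq_zero fun x hx => by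
      refine CT.extendByZero_not_mem _ _ fun hmem => hcs ((hs c).mpr ?_)
      have hxc : x • a = c := (Finset.mem_filter.mp hx).2
      rw [mem_stabilizer_iff, mul_smul, mul_smul, inv_smul_eq_iff, hxc] at hmem
      exact hmem)]
  refine Finset.sum_congr rfl fun c hcs => ?_
  set T := t c with hT
  have hTa : T • a = c := ht c hcs
  have hTg : T⁻¹ * g * T ∈ stabilizer G a := by
    rw [mem_stabilizer_iff, mul_smul, mul_smul, hTa, (hs c).mp hcs, inv_smul_eq_iff, hTa]
  rw [Finset.sum_congr rfl (fun x hx => show extendByZero (stabilizer G a) (fun y => (l y : ℂ)) (x⁻¹ * g * x) =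
      extendByZero (stabilizer G a) (fun y => (l y : ℂ)) (T⁻¹ * g * T) from ?_), Finset.sum_const, nsmul_eq_mul]
  · congr 1
    rw [Nat.cast_inj, Nat.card_eq_fintype_card]
    refine (Finset.card_bij (fun (b : stabilizer G a) _ => T * (b : G)) (fun b _ => ?_) (fun b _ b' _ e => ?_)
      (fun x hx => ?_)).symm
    · refine Finset.mem_filter.mpr ⟨Finset.mem_univ _, ?_⟩
      rw [mul_smul, b.2, hTa]
    · exact Subtype.ext (mul_left_cancel e)
    · have hxc : x • a = c := (Finset.mem_filter.mp hx).2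
      refine ⟨⟨T⁻¹ * x, ?_⟩, Finset.mem_univ _, mul_inv_cancel_left _ _⟩
      rw [mem_stabilizer_iff, mul_smul, hxc, inv_smul_eq_iff, hTa]
  · have hxc : x • a = c := (Finset.mem_filter.mp hx).2
    have hb : T⁻¹ * x ∈ stabilizer G a := by
      rw [mem_stabilizer_iff, mul_smul, hxc, inv_smul_eq_iff, hTa]
    set b : stabilizer G a := ⟨T⁻¹ * x, hb⟩ with hbd
    have e : x⁻¹ * g * x = ((b⁻¹ * ⟨_, hTg⟩ * b : stabilizer G a) : G) := by
      show _ = (T⁻¹ * x)⁻¹ * (T⁻¹ * g * T) * (T⁻¹ * x)
      group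
    rw [e, CT.extendByZero_coe, CT.extendByZero_mem (stabilizer G a) _ hTg]
    simp only [map_mul, map_inv]
    rw [mul_comm (l b)⁻¹, inv_mul_cancel_right]

end Cfsg.Agent.ZassOdd
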