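import Cfsg.Agent.Lib.ZassOddCount.Basic
import Cfsg.Agent.S0878

/-!
# The kernel of a point stabiliser from its order
-/

set_option autoImplicit false

namespace Cfsg.Agent.ZassOdd

open MulAction

theorem zker_of_card {G Ω : Type*} [Group G] [Finite G] [MulAction G Ω] [Fintype Ω]
    (hZ : Cfsg.IsZassenhausGroup G Ω) {a : Ω} {H : Subgroup G} (hHa : H ≤ MulAction.stabilizer G a)
    (hHcard : Nat.card H + 1 = Fintype.card Ω) (hHfix : ∀ u ∈ H, u ≠ 1 → ∀ c : Ω, u • c = c → c = a) :
    PermGp.ZEven.ZKer a H := by
  classical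
  have hn : Subgroup.normalizer (H : Set G) = MulAction.stabilizer G a :=
    (Cfsg.Agent.S0878.result hZ a H hHa hHcard hHfix).2
  exact (
    { fix := fun u hu => hHa hu
      conj := fun g hg u hu => (Subgroup.mem_normalizer_iff.mp
        (hn.ge (show g ∈ MulAction.stabilizer G a from hg)) u).mp hu
      semi := fun u hu y hy huy => by_contra fun h1 => hy (hHfix u hu h1 y huy)
      exists_eq := by
        intro y z hy hz
        have hne : ∀ u ∈ H, u • y ≠ a := fun u hu e =>
          hy (MulAction.injective u (e.trans (hHa hu : u • a = a).symm))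
        have hinj : Function.Injective fun u : H => (⟨(u : G) • y, hne u u.2⟩ : {w : Ω // w ≠ a}) := by
          intro u v e
          have e' : (u : G) • y = (v : G) • y := congrArg Subtype.val e
          by_contra hne'
          refine hy (hHfix ((v : G)⁻¹ * u) (H.mul_mem (H.inv_mem v.2) u.2) (fun e1 => hne'
            (Subtype.ext (inv_mul_eq_one.mp e1).symm)) y ?_)
          rw [mul_smul, e', inv_smul_smul]
        have hb := (Nat.bijective_iff_injective_and_card _).mpr ⟨hinj, by
          rw [Nat.card_eq_fintype_card (α := {w : Ω // w ≠ a}), Fintype.card_subtype_compl,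
            Fintype.card_subtype_eq]
          omega⟩
        obtain ⟨v, hv⟩ := hb.2 ⟨z, hz⟩
        exact ⟨v, v.2, congrArg Subtype.val hv⟩ }
  )

end Cfsg.Agent.ZassOdd
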