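import Cfsg.Agent.Lib.ZassOddCount.Coherent
import Cfsg.Agent.Lib.ZassOddCount.Kernel
import Cfsg.Agent.Lib.ZassOddCount.IndLinear
import Cfsg.Agent.Lib.CohExt.SibleyMain
import Cfsg.Agent.Lib.CohExt.Feit
import Cfsg.Agent.Lib.PermGp.ZassenhausEven.Iso
import Cfsg.Agent.Lib.ZassNormal.Basic
import Cfsg.Agent.S0739
import Cfsg.Agent.S0878

/-!
# Feit's bound for Zassenhaus groups with two-point stabilisers of odd order
-/

set_option autoImplicit false
set_option linter.all false

namespace Cfsg.Agent.ZassOdd.Main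

open MulAction
open scoped ComplexConjugate commutatorElement
open Cfsg.Agent.PermGp.ZEven Cfsg.Agent.CohExt

universe u v

variable {G : Type u} {Ω : Type v} [Group G] [MulAction G Ω]

/-- A semiregular action has group order dividing the number of points. -/
theorem card_dvd_of_free {E : Type u} [Group E] [Finite E] {X : Type u} [Finite X] [MulAction E X]
    (hfree : ∀ (g : E) (x : X), g • x = x → g = 1) : Nat.card E ∣ Nat.card X := by
  classical
  haveI := Fintype.ofFinite (orbitRel.Quotient E X)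
  rw [Nat.card_congr (MulAction.selfEquivSigmaOrbitsQuotientStabilizer E X), Nat.card_sigma]
  refine Finset.dvd_sum fun q _ => dvd_of_eq ?_
  have hst : Nat.card (stabilizer E q.out) = 1 :=
    Subgroup.card_eq_one.mpr ((Subgroup.eq_bot_iff_forall _).mpr fun g hg => hfree g _ hg)
  have h := (stabilizer E q.out).index_mul_card
  rw [hst, mul_one] at h
  exact h.symm

/-- The data. -/
structure Data (G : Type u) (Ω : Type v) [Group G] [MulAction G Ω] (a b : Ω) (F : Subgroup G) : Prop where
  ker : ZKer a F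
  grp : ZGrp G Ω
  zass : Cfsg.IsZassenhausGroup G Ω
  ne : a ≠ b
  odd : Odd (Nat.card ↥(stabilizer G a ⊓ stabilizer G b))
  inv : ∀ s : G, s • a = b → s • b = a → ∀ h ∈ stabilizer G a ⊓ stabilizer G b, s * h * s⁻¹ = h⁻¹

variable [Finite G] [Fintype Ω] {a b : Ω} {F : Subgroup G} (D : Data G Ω a b F)
include D

theorem fix_only {u : G} (hu : u ∈ F) (hu1 : u ≠ 1) {c : Ω} (hc : u • c = c) : c = a :=
  by_contra fun h => hu1 (D.ker.semi u hu c h hc)

theorem cent_le {k : G} (hk : k ∈ F) (hk1 : k ≠ 1) : Subgroup.centralizer ({k} : Set G) ≤ F := by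
  intro c hc
  have hcomm := Subgroup.mem_centralizer_singleton_iff.mp hc
  have hca : c • a = a := fix_only D hk hk1 (by rw [← mul_smul, ← hcomm, mul_smul, D.ker.fix k hk])
  by_contra hcF
  obtain ⟨d, hda, hd⟩ := ZassNormal.exists_ne_fixed D.ker D.grp hca hcF
  refine hcF ?_
  rw [D.grp.three c a d (k • d) hda.symm (fun e => hda (fix_only D hk hk1 e.symm))
    (fun e => D.ker.ne_of_mem hk hda e.symm) hca hd (by rw [← mul_smul, hcomm, mul_smul, hd])]
  exact one_mem F

theorem normalizer_mem (g : G) : g ∈ Subgroup.normalizer (F : Set G) ↔ g • a = a := by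
  rw [(Cfsg.Agent.S0878.result D.zass a F (fun u hu => D.ker.fix u hu) (D.ker.card_add_one D.ne)
    (fun u hu hu1 c hc => fix_only D hu hu1 hc)).2]
  rfl

theorem ti : IsTISubset (F : Set G) := by
  intro g hg u hu hgu
  by_contra hu1
  refine hg ((normalizer_mem D g).mpr (fix_only D hgu (fun e => hu1 (conj_eq_one_iff.mp e)) ?_))
  rw [mul_smul, mul_smul, inv_smul_smul, D.ker.fix u hu]

theorem two_comm {h k : G} (hh : h ∈ stabilizer G a ⊓ stabilizer G b) (hk : k ∈ stabilizer G a ⊓ stabilizer G b) :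
    h * k = k * h := by
  obtain ⟨s, hsa, hsb⟩ := PermGp.two_trans_exists D.grp.two D.ne D.ne.symm
  have h1 := D.inv s hsa hsb _ (mul_mem hh hk)
  rw [show s * (h * k) * s⁻¹ = (s * h * s⁻¹) * (s * k * s⁻¹) by group, D.inv s hsa hsb h hh,
    D.inv s hsa hsb k hk, ← mul_inv_rev, inv_inj] at h1
  exact h1.symm

variable (L : Subgroup G) (hL : ∀ g : G, g ∈ L ↔ g • a = a)
include hL

theorem le_L : F ≤ L := fun u hu => (hL u).mpr (D.ker.fix u hu)

theorem card_L : Nat.card L = Nat.card F * Nat.card ↥(stabilizer G a ⊓ stabilizer G b) := by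
  haveI := D.grp.two
  haveI : IsPretransitive G Ω := isPretransitive_of_is_two_pretransitive
  obtain rfl : L = stabilizer G a := Subgroup.ext hL
  have h := card_group D.ker D.grp D.ne
  rw [← PermGp.card_mul_card_stabilizer (G := G) a, Nat.card_eq_fintype_card (α := Ω)] at h
  exact Nat.eq_of_mul_eq_mul_left (Fintype.card_pos_iff.mpr ⟨a⟩) h

theorem index_eq : (F.subgroupOf L).index = Nat.card ↥(stabilizer G a ⊓ stabilizer G b) := by
  have h := (F.subgroupOf L).card_mul_index
  rw [Nat.card_congr (Subgroup.subgroupOfEquivOfLe (le_L D L hL)).toEquiv, card_L D L hL] at h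
  exact Nat.eq_of_mul_eq_mul_left Nat.card_pos h

theorem normal_sub : (F.subgroupOf L).Normal :=
  ⟨fun u hu g => D.ker.conj g ((hL g).mp g.2) u hu⟩

theorem hC_L : ∀ n ∈ F.subgroupOf L, n ≠ 1 → Subgroup.centralizer ({n} : Set L) ≤ F.subgroupOf L := by
  intro n hn hn1 c hc
  refine cent_le D hn (fun e => hn1 (Subtype.ext e)) (Subgroup.mem_centralizer_singleton_iff.mpr ?_)
  exact congrArg Subtype.val (Subgroup.mem_centralizer_singleton_iff.mp hc)

theorem comm_mem (x y : L) : x * y * x⁻¹ * y⁻¹ ∈ F.subgroupOf L := by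
  haveI := normal_sub D L hL
  have hdec : ∀ z : L, ∃ h : L, (h : G) ∈ stabilizer G a ⊓ stabilizer G b ∧
      (QuotientGroup.mk z : L ⧸ F.subgroupOf L) = QuotientGroup.mk h := by
    intro z
    have hza := (hL z).mp z.2
    obtain ⟨u, hu, hub⟩ := D.ker.exists_eq b ((z : G) • b) D.ne.symm
      (fun e => D.ne.symm (MulAction.injective (z : G) (e.trans hza.symm)))
    refine ⟨⟨u⁻¹ * z, mul_mem (inv_mem (le_L D L hL hu)) z.2⟩, Subgroup.mem_inf.mpr
      ⟨by rw [mem_stabilizer_iff, mul_smul, hza, inv_smul_eq_iff, D.ker.fix u hu],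
        by rw [mem_stabilizer_iff, mul_smul, inv_smul_eq_iff, hub]⟩, ?_⟩
    refine (QuotientGroup.eq).mpr ?_
    show (z : G)⁻¹ * (u⁻¹ * z) ∈ F
    have := D.ker.conj (z : G)⁻¹ (inv_smul_eq_iff.mpr hza.symm) _ (inv_mem hu)
    rwa [inv_inv, mul_assoc] at this
  obtain ⟨h, hh, eh⟩ := hdec x
  obtain ⟨k, hk, ek⟩ := hdec y
  rw [← QuotientGroup.eq_one_iff]
  have hc : h * k = k * h := Subtype.ext (two_comm D hh hk)
  simp only [QuotientGroup.mk_mul, QuotientGroup.mk_inv, eh, ek]
  rw [← QuotientGroup.mk_mul, hc, QuotientGroup.mk_mul]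
  group

theorem supp [Fintype G] (φ : L → ℂ) (hcf : IsClassFunction L φ) (hvan : ∀ x, x ∉ F.subgroupOf L → φ x = 0)
    (x : L) [Decidable (x = 1)] :
    indFun L φ x = φ x + if x = 1 then (Nat.card (F.subgroupOf L) : ℂ) * φ 1 else 0 := by
  classical
  have hidx : L.index = Nat.card F + 1 := by
    haveI := D.grp.two
    haveI : IsPretransitive G Ω := isPretransitive_of_is_two_pretransitive
    rw [show L = stabilizer G a from Subgroup.ext hL, MulAction.index_stabilizer_of_transitive,
      Nat.card_eq_fintype_card, D.ker.card_add_one D.ne]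
  split_ifs with hx
  · subst hx
    rw [OneMemClass.coe_one, CT.indFun_one_eval, hidx,
      Nat.card_congr (Subgroup.subgroupOfEquivOfLe (le_L D L hL)).toEquiv]
    push_cast; ring
  · rw [add_zero]
    unfold indFun
    have hterm : ∀ g : G, extendByZero L φ (g⁻¹ * x * g) = if g ∈ L then φ x else 0 := by
      intro g
      split_ifs with hg
      · rw [show g⁻¹ * (x : G) * g = (((⟨g, hg⟩ : L)⁻¹ * x * ⟨g, hg⟩ : L) : G) from rfl, CT.extendByZero_coe]
        conv_rhs => rw [← hcf x (⟨g, hg⟩ : L)⁻¹, inv_inv]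
      · by_cases hm : g⁻¹ * (x : G) * g ∈ L
        · rw [CT.extendByZero_mem L φ hm]
          refine hvan _ fun hmem => hg ((hL g).mpr ?_)
          have hmem' : g⁻¹ * (x : G) * g ∈ F := hmem
          have hne : g⁻¹ * (x : G) * g ≠ 1 := fun e => hx (Subtype.ext (by
            calc (x : G) = g * (g⁻¹ * x * g) * g⁻¹ := by group
              _ = 1 := by rw [e]; group))
          have := fix_only D hmem' hne (c := g⁻¹ • a) (by
            rw [mul_smul, mul_smul, smul_inv_smul, (hL x).mp x.2])
          rw [inv_smul_eq_iff] at this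
          exact this.symm
        · exact CT.extendByZero_not_mem L φ hm
    rw [Finset.sum_congr rfl fun g _ => hterm g, ← Finset.sum_filter, Finset.sum_const, nsmul_eq_mul,
      ← mul_assoc]
    rw [show ((Finset.univ.filter fun g : G => g ∈ L).card) = Nat.card L by
      rw [Nat.card_eq_fintype_card, ← Fintype.card_subtype],
      inv_mul_cancel₀ (Nat.cast_ne_zero.mpr Nat.card_pos.ne'), one_mul]

theorem lin [Fintype G] [Fintype L] (μ ν : L → ℂ) (hμ : IsIrrCharacter L μ) (hμ1 : μ 1 = 1)
    (hμN : ∀ n ∈ F.subgroupOf L, μ n = 1) (hν : IsIrrCharacter L ν) (hνN : ∀ n ∈ F.subgroupOf L, ν n = 1)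
    [Decidable (μ = ν)] [Decidable ((fun x => conj (μ x)) = ν)] :
    classInner (fun x : L => indFun L μ x) ν =
      (if μ = ν then 1 else 0) + (if (fun x => conj (μ x)) = ν then 1 else 0) := by
  classical
  obtain rfl : L = stabilizer G a := Subgroup.ext hL
  obtain ⟨l, rfl⟩ := CT.exists_hom_of_degree_one (CT.isCharacter_of_isIrr hμ) hμ1
  haveI := D.grp.two
  haveI : IsPretransitive G Ω := isPretransitive_of_is_two_pretransitive
  set θ := indFun (stabilizer G a) (fun x => (l x : ℂ)) with hθ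
  have hconj : ∀ h : stabilizer G a, conj (l h : ℂ) = ((l h)⁻¹ : ℂˣ) := fun h => by
    rw [← CT.char_inv_eq_conj (CT.isCharacter_of_isIrr hμ), map_inv]
  have hone : θ 1 = (Fintype.card Ω : ℂ) := by
    rw [hθ, CT.indFun_one_eval, MulAction.index_stabilizer_of_transitive, Nat.card_eq_fintype_card]
    simp
  have hH : ∀ u : stabilizer G a, (u : G) ∈ F → u ≠ 1 → θ u = 1 := by
    intro u hu hu1
    rw [hθ, ZassOdd.ind_linear_apply a l u (fun _ => 1) {a}
      (fun c => ⟨fun h => by rw [Finset.mem_singleton.mp h]; exact u.2,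
        fun h => Finset.mem_singleton.mpr (fix_only D hu (fun e => hu1 (Subtype.ext e)) h)⟩)
      (fun c hc => by rw [one_smul, Finset.mem_singleton.mp hc]), Finset.sum_singleton, inv_one,
      one_mul, mul_one, CT.extendByZero_coe]
    exact hμN u hu
  obtain ⟨s, hsa, hsb⟩ := PermGp.two_trans_exists D.grp.two D.ne D.ne.symm
  have hE : ∀ g : stabilizer G a, (g : G) • b = b → g ≠ 1 → θ g = (l g : ℂ) + conj (l g : ℂ) := by
    intro g hgb hg1
    have hg1' : (g : G) ≠ 1 := fun e => hg1 (Subtype.ext e)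
    have hga : (g : G) • a = a := g.2
    rw [hθ, ZassOdd.ind_linear_apply a l g (fun x => if x = a then 1 else s) {a, b}
      (fun d => ⟨fun h => by
          rcases Finset.mem_insert.mp h with rfl | h
          · exact hga
          · rw [Finset.mem_singleton.mp h]; exact hgb,
        fun h => by
          by_contra hd
          simp only [Finset.mem_insert, Finset.mem_singleton, not_or] at hd
          exact hg1' (D.grp.three g a b d D.ne (Ne.symm hd.2) (Ne.symm hd.1) hga hgb h)⟩)
      (fun d hd => by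
          rcases Finset.mem_insert.mp hd with rfl | hd
          · rw [if_pos rfl, one_smul]
          · rw [Finset.mem_singleton.mp hd, if_neg D.ne.symm]; exact hsa),
      Finset.sum_pair D.ne, if_pos rfl, if_neg D.ne.symm, inv_one, one_mul, mul_one,
      CT.extendByZero_coe]
    congr 1
    have h1 := D.inv s hsa hsb (g : G)⁻¹ (Subgroup.inv_mem _ (Subgroup.mem_inf.mpr ⟨hga, hgb⟩))
    rw [inv_inv] at h1
    have e : s⁻¹ * (g : G) * s = ((g⁻¹ : stabilizer G a) : G) := by
      rw [InvMemClass.coe_inv]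
      conv_lhs => rw [← h1]
      group
    rw [e, CT.extendByZero_coe, hconj, map_inv]
  have hout : ∀ g : stabilizer G a, (g : G) ∉ F → θ g = (l g : ℂ) + conj (l g : ℂ) := by
    intro g hg
    obtain ⟨c, hca, hc⟩ := ZassNormal.exists_ne_fixed D.ker D.grp g.2 hg
    obtain ⟨u, hu, huc⟩ := D.ker.exists_eq b c D.ne.symm hca
    let u' : stabilizer G a := ⟨u, D.ker.fix u hu⟩
    let g' : stabilizer G a := u'⁻¹ * g * u'
    have hg'b : (g' : G) • b = b := by
      show (u⁻¹ * (g : G) * u) • b = b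
      rw [mul_smul, mul_smul, huc, hc, inv_smul_eq_iff, huc]
    have hg'1 : g' ≠ 1 := fun e => hg (by
      have : g = 1 := by
        calc g = u' * g' * u'⁻¹ := by show g = u' * (u'⁻¹ * g * u') * u'⁻¹; group
          _ = 1 := by rw [e]; group
      rw [this]; exact one_mem F)
    have hl : (l g' : ℂ) = l g := by
      show ((l (u'⁻¹ * g * u') : ℂˣ) : ℂ) = l g
      rw [map_mul, map_mul, map_inv, mul_comm (l u')⁻¹, inv_mul_cancel_right]
    have hθg : θ g' = θ g := by
      have := CT.isClassFunction_indFun (stabilizer G a) (fun x => (l x : ℂ)) (g : G) u⁻¹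
      rw [inv_inv] at this
      exact this
    rw [← hθg, hE g' hg'b hg'1, hl]
  have hpt : ∀ h : stabilizer G a, θ h = ((l h : ℂ) + conj (l h : ℂ)) +
      ((if h = 1 then (Nat.card F : ℂ) else 0) + if (h : G) ∈ F then -1 else 0) := by
    intro h
    rcases eq_or_ne h 1 with rfl | h1
    · rw [if_pos rfl, if_pos (by simp), map_one, Units.val_one, OneMemClass.coe_one, hone, map_one,
        ← D.ker.card_add_one D.ne]
      push_cast
      ring
    · rw [if_neg h1]
      by_cases hh : (h : G) ∈ F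
      · rw [if_pos hh, hH h hh h1, show (l h : ℂ) = 1 from hμN h hh, map_one]
        ring
      · rw [if_neg hh, hout h hh]
        ring
  have hμc : IsIrrCharacter (stabilizer G a) (fun x => conj (l x : ℂ)) := CohExt.isIrr_conjFun hμ
  rw [show (fun x : stabilizer G a => θ x) = ((fun x => (l x : ℂ)) + fun x => conj (l x : ℂ)) +
      ((fun h : stabilizer G a => if h = 1 then (Nat.card F : ℂ) else 0) +
        fun h : stabilizer G a => if (h : G) ∈ F then (-1 : ℂ) else 0) from funext hpt,
    CT.classInner_add_left, CT.classInner_add_left, CT.classInner_add_left, CT.irr_inner hμ hν,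
    CT.irr_inner hμc hν]
  refine Eq.trans (congrArg₂ (· + ·) rfl (?_ : _ = (0 : ℂ))) (by simp only [add_zero]; convert rfl)
  rw [classInner, classInner, ← mul_add, ← Finset.sum_add_distrib]
  refine mul_eq_zero_of_right _ ?_
  rw [Finset.sum_add_distrib, Finset.sum_eq_single (1 : stabilizer G a)
      (fun x _ hx => by rw [if_neg hx, zero_mul]) (fun hx => absurd (Finset.mem_univ _) hx), if_pos rfl,
    hνN 1 (one_mem _), map_one, mul_one]
  rw [Finset.sum_congr rfl (g := fun x : stabilizer G a => if (x : G) ∈ F then (-1 : ℂ) else 0) fun x _ => by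
      split_ifs with hh
      · rw [hνN x hh, map_one, mul_one]
      · rw [zero_mul],
    ← Finset.sum_filter, Finset.sum_const, nsmul_eq_mul]
  rw [show (Finset.univ.filter fun h : stabilizer G a => (h : G) ∈ F).card = Nat.card F by
    rw [← Nat.card_congr (Subgroup.subgroupOfEquivOfLe (le_L D _ hL)).toEquiv, Nat.card_eq_fintype_card]
    exact (Fintype.card_of_subtype _ fun x => by simp [Subgroup.mem_subgroupOf]).symm]
  ring

omit hL in
open Classical in
/-- Coherence is impossible for a kernel of order above `2 e + 1`. -/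
theorem not_coherent [Fintype G] [Fintype L] (hL : ∀ g : G, g ∈ L ↔ g • a = a)
    (hbig : 2 * Nat.card ↥(stabilizer G a ⊓ stabilizer G b) + 1 < Nat.card F) :
    ¬ IsCoherent (↑(FrobSet.ntAbove (F.subgroupOf L) ⊥) : Set (L → ℂ)) {1}ᶜ (fun α : L → ℂ => indFun L α) := by
  intro hcoh
  haveI := normal_sub D L hL
  set d := Nat.card ↥(stabilizer G a ⊓ stabilizer G b) with hd
  have hcardN : Nat.card (F.subgroupOf L) = Nat.card F :=
    Nat.card_congr (Subgroup.subgroupOfEquivOfLe (le_L D L hL)).toEquiv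
  have hd2 : 2 ≤ d := D.grp.stab_pos D.ne
  obtain ⟨A, hA, heA, hhA⟩ := Coh.degree_formula L (F.subgroupOf L) (hC_L D L hL) (comm_mem D L hL)
    (by rw [index_eq D L hL]; exact hd2) (by rw [index_eq D L hL]; exact D.odd)
    (by rw [index_eq D L hL, hcardN]; exact hbig)
    (by rw [index_eq D L hL, hcardN, card_group D.ker D.grp D.ne, ← D.ker.card_add_one D.ne, mul_assoc])
    (fun φ h1 h2 x => supp D L hL φ h1 h2 x)
    (fun μ ν h1 h2 h3 h4 _ h6 => lin D L hL μ ν h1 h2 h3 h4 h6) hcoh
  rw [index_eq D L hL, ← hd] at heA hhA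
  rw [hcardN] at hhA
  have hfac : Nat.card F = (2 * A - 1) * (A - 1) := by
    rw [hhA]
    obtain ⟨B, rfl⟩ : ∃ B, A = B + 1 := ⟨A - 1, by omega⟩
    rw [show d = 2 * (B + 1) - 3 by omega, show 2 * (B + 1) - 1 = 2 * B + 1 by omega, Nat.add_sub_cancel]
    obtain ⟨C, rfl⟩ : ∃ C, B = C + 1 := ⟨B - 1, by omega⟩
    rw [show 2 * (C + 1 + 1) - 3 = 2 * C + 1 by omega]
    ring
  obtain ⟨r, hr, hrA⟩ := Nat.exists_prime_and_dvd (show A - 1 ≠ 1 by omega)
  haveI := Fact.mk hr
  haveI hnilN := OddChar.frob_nilpotent (F.subgroupOf L) (hC_L D L hL)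
    (fun e1 => by rw [e1, Subgroup.card_bot] at hcardN; omega)
    (fun e1 => by have := index_eq D L hL; rw [e1, Subgroup.index_top] at this; omega)
  haveI : Group.IsNilpotent F := Group.nilpotent_of_mulEquiv (Subgroup.subgroupOfEquivOfLe (le_L D L hL))
  obtain ⟨R⟩ : Nonempty (Sylow r F) := inferInstance
  haveI hRn : (R : Subgroup F).Normal :=
    (Group.isNilpotent_of_finite_tfae.out 0 3 rfl rfl).mp (inferInstance : Group.IsNilpotent F) r inferInstance R
  have hRchar : (R : Subgroup F).Characteristic := R.characteristic_of_normal hRn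
  have hfac' := (Nat.card F).ordProj_dvd r
  have hRcard : Nat.card (R : Subgroup F) ∣ A - 1 := by
    have h1 : Nat.card (R : Subgroup F) ∣ (2 * A - 1) * (A - 1) := hfac ▸ Subgroup.card_subgroup_dvd_card _
    refine Nat.Coprime.dvd_of_dvd_mul_left ?_ h1
    obtain ⟨k, hk⟩ := R.isPGroup'.exists_card_eq
    rw [hk]
    refine Nat.Coprime.pow_left k (hr.coprime_iff_not_dvd.mpr fun h2 => hr.not_dvd_one ?_)
    have := Nat.dvd_sub h2 (hrA.mul_left 2)
    rwa [show 2 * A - 1 - 2 * (A - 1) = 1 by omega] at this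
  have hR1 : 2 ≤ Nat.card (R : Subgroup F) := by
    have hne : (R : Subgroup F) ≠ ⊥ := R.ne_bot_of_dvd_card (hfac ▸ hrA.mul_left _)
    exact (Subgroup.one_lt_card_iff_ne_bot _).mpr hne
  -- the two-point stabiliser acts freely on the non-identity elements of `R`
  let E : Subgroup G := stabilizer G a ⊓ stabilizer G b
  let cj : E → F →* F := fun h =>
    { toFun := fun u => ⟨(h : G) * u * (h : G)⁻¹, D.ker.conj h (Subgroup.mem_inf.mp h.2).1 u u.2⟩
      map_one' := Subtype.ext (by simp)
      map_mul' := fun u v => Subtype.ext (by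
        show (h : G) * ((u : G) * v) * (h : G)⁻¹ = h * u * (h : G)⁻¹ * (h * v * (h : G)⁻¹)
        group) }
  let ce : E → F ≃* F := fun h =>
    { cj h with
      invFun := cj h⁻¹
      left_inv := fun u => Subtype.ext (by
        show ((h⁻¹ : E) : G) * ((h : G) * u * (h : G)⁻¹) * ((h⁻¹ : E) : G)⁻¹ = u
        push_cast; group)
      right_inv := fun u => Subtype.ext (by
        show (h : G) * (((h⁻¹ : E) : G) * u * ((h⁻¹ : E) : G)⁻¹) * (h : G)⁻¹ = u
        push_cast; group) }
  have hinvR : ∀ (h : E) (u : F), u ∈ (R : Subgroup F) → cj h u ∈ (R : Subgroup F) := by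
    intro h u hu
    have := hRchar.fixed (ce h)
    rw [← this] at hu
    exact hu
  let X := {u : F // u ∈ (R : Subgroup F) ∧ u ≠ 1}
  letI act : MulAction E X :=
    { smul := fun h u => ⟨cj h u.1, hinvR h u.1 u.2.1, fun e1 => u.2.2 ((ce h).map_eq_one_iff.mp e1)⟩
      one_smul := fun u => Subtype.ext (Subtype.ext (by
        show ((1 : E) : G) * (u.1 : G) * ((1 : E) : G)⁻¹ = u.1
        simp))
      mul_smul := fun h k u => Subtype.ext (Subtype.ext (by
        show ((h * k : E) : G) * (u.1 : G) * ((h * k : E) : G)⁻¹ = h * ((k : G) * u.1 * (k : G)⁻¹) * (h : G)⁻¹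
        push_cast; group)) }
  have hfree : ∀ (h : E) (u : X), h • u = u → h = 1 := fun h u e1 =>
    Subtype.ext (D.ker.fpf D.grp D.ne (Subgroup.mem_inf.mp h.2).1 (Subgroup.mem_inf.mp h.2).2 u.1.2
      (fun e2 => u.2.2 (Subtype.ext e2)) (congrArg (fun w : X => ((w.1 : F) : G)) e1))
  have hdvd : d ∣ Nat.card (R : Subgroup F) - 1 := by
    have h1 : Nat.card E ∣ Nat.card X := card_dvd_of_free (E := E) (X := X) hfree
    have hX : Nat.card X = Nat.card (R : Subgroup F) - 1 := by
      rw [Nat.card_congr ((Equiv.subtypeSubtypeEquivSubtypeInter (· ∈ (R : Subgroup F)) (· ≠ (1 : F))).symm),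
        Nat.card_congr (Equiv.subtypeEquivRight (q := fun x : (R : Subgroup F) => x ≠ 1)
          (fun x => not_congr OneMemClass.coe_eq_one)),
        Nat.card_eq_fintype_card, Fintype.card_subtype_compl, Fintype.card_subtype_eq, ← Nat.card_eq_fintype_card]
    rwa [hX] at h1
  have h1 := Nat.le_of_dvd (by omega) hdvd
  have h2 := Nat.le_of_dvd (by omega) hRcard
  omega

end Cfsg.Agent.ZassOdd.Main
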