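import Cfsg.Agent.Lib.PermGp.ZassenhausEven.Kernel
import Cfsg.Agent.Lib.Basics.ThompsonFpf
import Mathlib.Algebra.IsPrimePow
import Mathlib.GroupTheory.Nilpotent

/-!
# The kernel order in the case of few orbits
-/

set_option autoImplicit false

namespace Cfsg.Agent.ZassOdd

open MulAction
open Cfsg.Agent.PermGp.ZEven

universe u v

/-- A kernel with at most two orbits of the two-point stabiliser has prime power order. -/
theorem prime_pow_of_small {G : Type u} {Ω : Type v} [Group G] [MulAction G Ω] [Finite G] [Fintype Ω]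
    {a b : Ω} {F : Subgroup G} (Z : ZGrp G Ω) (hK : ZKer a F) (hab : a ≠ b) (hF1 : 2 ≤ Nat.card F)
    (hsmall : Nat.card F - 1 ≤ 2 * Nat.card ↥(stabilizer G a ⊓ stabilizer G b)) :
    IsPrimePow (Nat.card F) := by
  classical
  haveI := Fintype.ofFinite F
  set E := stabilizer G a ⊓ stabilizer G b with hE
  haveI : Fintype E := Fintype.ofFinite E
  have he : 1 < Nat.card E := Z.stab_pos hab
  obtain ⟨q, hq, hqd⟩ := Nat.exists_prime_and_dvd he.ne'
  haveI := Fact.mk hq
  obtain ⟨k, hk⟩ := exists_prime_orderOf_dvd_card' (G := E) q hqd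
  obtain ⟨hka, hkb⟩ := Subgroup.mem_inf.mp k.2
  set B := stabilizer G a with hB
  have hFB : F ≤ B := fun u hu => hK.fix u hu
  haveI : (F.subgroupOf B).Normal := ⟨fun n hn g => hK.conj g g.2 n hn⟩
  have hkB : orderOf (⟨(k : G), hka⟩ : B) = q := by
    rw [← Subgroup.orderOf_coe, show ((⟨(k : G), hka⟩ : B) : G) = (k : G) from rfl, Subgroup.orderOf_coe, hk]
  have hk1 : (k : G) ≠ 1 := fun h => by
    rw [← Subgroup.orderOf_coe, h, orderOf_one] at hk
    exact hq.ne_one hk.symm
  haveI := Basics.isNilpotent_of_conj_fpf (F.subgroupOf B) hkB fun n hn hcomm => by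
    by_contra hn1
    refine hk1 (hK.fpf Z hab (g := (k : G)) hka hkb (u := (n : G)) hn (fun h => hn1 (Subtype.ext h)) ?_)
    have h' : (k : G) * n = n * k := congrArg Subtype.val hcomm
    rw [h', mul_inv_cancel_right]
  haveI : Group.IsNilpotent F := Group.nilpotent_of_mulEquiv (Subgroup.subgroupOfEquivOfLe hFB)
  have hfib : ∀ u : F, u ≠ 1 →
      Nat.card E ≤ (Finset.univ.filter fun w : F => orderOf w = orderOf u).card := by
    intro u hu
    rw [Nat.card_eq_fintype_card, ← Finset.card_univ]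
    refine Finset.card_le_card_of_injOn
      (fun h : E => (⟨(h : G) * u * (h : G)⁻¹, hK.conj h (Subgroup.mem_inf.mp h.2).1 u u.2⟩ : F))
      (fun h _ => Finset.mem_filter.mpr ⟨Finset.mem_univ _, ?_⟩) (fun h _ h' _ e => ?_)
    · rw [← Subgroup.orderOf_coe, ← Subgroup.orderOf_coe u]
      exact orderOf_injective (MulAut.conj (h : G)).toMonoidHom (MulAut.conj (h : G)).injective (u : G)
    · have e' : (h : G) * u * (h : G)⁻¹ = (h' : G) * u * (h' : G)⁻¹ := congrArg Subtype.val e
      obtain ⟨h1, h2⟩ := Subgroup.mem_inf.mp (E.mul_mem (E.inv_mem h'.2) h.2)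
      refine Subtype.ext (inv_mul_eq_one.mp (hK.fpf Z hab h1 h2 u.2 (fun e1 => hu (Subtype.ext e1)) ?_)).symm
      calc (h' : G)⁻¹ * h * u * ((h' : G)⁻¹ * h)⁻¹ = (h' : G)⁻¹ * ((h : G) * u * (h : G)⁻¹) * h' := by group
        _ = u := by rw [e']; group
  obtain ⟨r, hr, hrd⟩ := Nat.exists_prime_and_dvd (show Nat.card F ≠ 1 by omega)
  rw [isPrimePow_iff_unique_prime_dvd]
  refine ⟨r, ⟨hr, hrd⟩, fun s ⟨hs, hsd⟩ => ?_⟩
  by_contra hrs
  haveI := Fact.mk hr
  haveI := Fact.mk hs
  obtain ⟨x, hx⟩ := exists_prime_orderOf_dvd_card' (G := F) r hrd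
  obtain ⟨y, hy⟩ := exists_prime_orderOf_dvd_card' (G := F) s hsd
  obtain ⟨P, hP⟩ := (IsPGroup.of_card (G := Subgroup.zpowers x) (p := r) (n := 1)
    (by rw [Nat.card_zpowers, hx, pow_one])).exists_le_sylow
  obtain ⟨Q, hQ⟩ := (IsPGroup.of_card (G := Subgroup.zpowers y) (p := s) (n := 1)
    (by rw [Nat.card_zpowers, hy, pow_one])).exists_le_sylow
  have hPn : (P : Subgroup F).Normal := P.normal_of_normalizerCondition Group.normalizerCondition_of_isNilpotent
  have hQn : (Q : Subgroup F).Normal := Q.normal_of_normalizerCondition Group.normalizerCondition_of_isNilpotent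
  have hcomm : Commute x y := Subgroup.commute_of_normal_of_disjoint _ _ hPn hQn
    (IsPGroup.disjoint_of_ne r s (Ne.symm hrs) _ _ P.isPGroup' Q.isPGroup') x y
    (hP (Subgroup.mem_zpowers x)) (hQ (Subgroup.mem_zpowers y))
  have hxy : orderOf (x * y) = r * s := by
    rw [hcomm.orderOf_mul_eq_mul_orderOf_of_coprime, hx, hy]
    rw [hx, hy]
    exact (Nat.coprime_primes hr hs).mpr (Ne.symm hrs)
  have hne : ∀ w : F, ∀ n : ℕ, 2 ≤ n → orderOf w = n → w ≠ 1 := fun w n hn hw e => by
    rw [e, orderOf_one] at hw; omega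
  have hrs2 : 2 ≤ r * s := le_trans hr.two_le (Nat.le_mul_of_pos_right _ hs.pos)
  have h1 := hfib x (hne x r hr.two_le hx)
  have h2 := hfib y (hne y s hs.two_le hy)
  have h3 := hfib (x * y) (hne _ _ hrs2 hxy)
  rw [hx] at h1
  rw [hy] at h2
  rw [hxy] at h3
  set S := fun n : ℕ => Finset.univ.filter fun w : F => orderOf w = n with hS
  have hdis : ∀ m n : ℕ, m ≠ n → Disjoint (S m) (S n) := fun m n hmn =>
    Finset.disjoint_filter.mpr fun w _ hwm hwn => hmn (hwm.symm.trans hwn)
  have hsub : S r ∪ S s ∪ S (r * s) ⊆ Finset.univ.erase (1 : F) := by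
    intro w hw
    refine Finset.mem_erase.mpr ⟨?_, Finset.mem_univ _⟩
    simp only [hS, Finset.mem_union, Finset.mem_filter, Finset.mem_univ, true_and] at hw
    rcases hw with (hw | hw) | hw
    · exact hne w r hr.two_le hw
    · exact hne w s hs.two_le hw
    · exact hne w _ hrs2 hw
  have hcard := Finset.card_le_card hsub
  rw [Finset.card_erase_of_mem (Finset.mem_univ _), Finset.card_univ, ← Nat.card_eq_fintype_card,
    Finset.card_union_of_disjoint, Finset.card_union_of_disjoint (hdis _ _ (Ne.symm hrs))] at hcard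
  · simp only [hS] at hcard h1 h2 h3
    omega
  · refine Finset.disjoint_union_left.mpr ⟨hdis _ _ ?_, hdis _ _ ?_⟩
    · have := hs.two_le; nlinarith [hr.pos]
    · have := hr.two_le; nlinarith [hs.pos]

end Cfsg.Agent.ZassOdd
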